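import Cfsg.Prelude.Def_Transfer
import Cfsg.Agent.H130.GLn
import Cfsg.Agent.H322.Cent.Uni
import Cfsg.Agent.H130.SLn
import Cfsg.Agent.H376.SpEmb
import Cfsg.Agent.H130.Spn
import Cfsg.Agent.S0245
import Cfsg.Agent.S0246
import Cfsg.Agent.S0278
import Cfsg.Agent.S0280
import Cfsg.Agent.H372.FourList_m3
import Cfsg.Agent.LieClassical.OmegaReindex
import Cfsg.Agent.LieClassical.OrthCenter
import Cfsg.Agent.ClassicalGeometry.SiegelGen
import Cfsg.Agent.ClassicalGeometry.OrthDickson
import Cfsg.Agent.S0286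
import Cfsg.Agent.S0287
import Cfsg.Agent.S0288
import Cfsg.Agent.ChevalleyStructure.Elts
import Cfsg.Agent.S2378
import Cfsg.Prelude.Def_LieTwisted
import Cfsg.Prelude.Def_Sz
import Cfsg.Agent.LieClassical.SLTwoUnipotent
import Cfsg.Agent.H341.ThreeList_m3
import Cfsg.Agent.OrdDiv.Table
import Cfsg.Agent.H766.FiveSimple
import Cfsg.Agent.S5343
import Cfsg.Agent.S5239
import Cfsg.Agent.S3806
import Cfsg.Agent.FastGrp
import Cfsg.Agent.Prune
set_option linter.all false
prune_inst 0x7ff1fcfd1db975dfffff7e7ffff5dffc3bd2dfffefdefb4bffecfbffafdf231a3be5fbaf1de050ff0ed6e2b630b87853f9ffceffeb6bdc7ffffd5ff45ffbee1ff7febd2931d79d340f3c6ffff3f07fce7f3fffffffffffffffffffffffffffbeffffffffffff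
open scoped Cfsg.Agent.FastGrp

-- part: H496/Sev/Base
section
/-!
# Simple groups with a Sylow `7`-subgroup of order `7 ^ 5` and small abelian `7`-subgroups: basics (helper496)

`Hyp G` : the `7`-part of `|G|` is `7 ^ 5` and abelian `7`-subgroups have order at most `7 ^ 3`.
* `Hyp.of_sylow` : exponent `7` and rank at most three are enough;
* `Hyp.false_of_surj` : `G` is not a quotient of a group with abelian Sylow `7`-subgroups;
* `Hyp.false_of_GL` : `G` is not a quotient of a subgroup of `GL_n(q)`, `n < 7 * ord_7(q)`;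
* `Hyp.false_of_prod` : `G` does not contain a product of two groups of order divisible by `49`.
-/

set_option autoImplicit false

namespace Cfsg.Agent.H496.Sev

open Cfsg

universe u v w

instance fact7 : Fact (Nat.Prime 7) := ⟨by norm_num⟩

/-- the `7`-part of the order is `7 ^ 5`, abelian `7`-subgroups have order at most `7 ^ 3` -/
structure Hyp (G : Type u) [Group G] : Prop where
  val : (Nat.card G).factorization 7 = 5
  small : ∀ A : Subgroup G, IsMulCommutative A → IsPGroup 7 A → Nat.card A ≤ 7 ^ 3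

theorem Hyp.congr {G : Type u} {H : Type v} [Group G] [Group H] (h : Hyp G) (e : G ≃* H) : Hyp H := by
  constructor
  · rw [← Nat.card_congr e.toEquiv]
    exact h.val
  · intro A hA hp
    have h1 := h.small (A.comap e.toMonoidHom) ?_ ?_
    · rwa [Nat.card_congr (A.comap e.toMonoidHom |>.equivMapOfInjective e.toMonoidHom e.injective).toEquiv,
        Subgroup.map_comap_eq_self_of_surjective e.surjective] at h1
    · constructor
      constructor
      intro a b
      apply Subtype.ext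
      apply e.injective
      have h2 := hA.is_comm.comm ⟨e a.1, a.2⟩ ⟨e b.1, b.2⟩
      have h3 : e a.1 * e b.1 = e b.1 * e a.1 := congrArg Subtype.val h2
      change e (a.1 * b.1) = e (b.1 * a.1)
      rw [map_mul, map_mul, h3]
    · intro a
      obtain ⟨k, hk⟩ := hp ⟨e a.1, a.2⟩
      refine ⟨k, Subtype.ext (e.injective ?_)⟩
      have h3 : (e a.1) ^ 7 ^ k = 1 := congrArg Subtype.val hk
      change e (a.1 ^ 7 ^ k) = e 1
      rw [map_pow, h3, map_one]

variable {G : Type u} [Group G] [Finite G]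

/-- Sylow subgroups are not abelian -/
theorem Hyp.false_of_comm (h : Hyp G) (P : Sylow 7 G) (hP : ∀ x ∈ P, ∀ y ∈ P, x * y = y * x) : False := by
  have h1 := h.small P ⟨⟨fun a b => Subtype.ext (hP a.1 a.2 b.1 b.2)⟩⟩ P.isPGroup'
  rw [P.card_eq_multiplicity, h.val] at h1
  norm_num at h1

theorem Hyp.false_of_surj (h : Hyp G) {H : Type v} [Group H] [Finite H] (φ : H →* G)
    (hφ : Function.Surjective φ) (Q : Sylow 7 H) (hQ : ∀ x ∈ Q, ∀ y ∈ Q, x * y = y * x) : False := by
  refine h.false_of_comm (Q.mapSurjective hφ) ?_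
  intro x hx y hy
  have hx1 : x ∈ ((Q.mapSurjective hφ : Sylow 7 G) : Subgroup G) := hx
  have hy1 : y ∈ ((Q.mapSurjective hφ : Sylow 7 G) : Subgroup G) := hy
  rw [Sylow.coe_mapSurjective] at hx1 hy1
  obtain ⟨a, ha, rfl⟩ := hx1
  obtain ⟨b, hb, rfl⟩ := hy1
  rw [← map_mul, ← map_mul, hQ a ha b hb]

/-- commutative `7`-subgroups of `GL_n(q)` -/
theorem comm_of_GL {F : Type w} [Field F] [Fintype F] {q n : ℕ} (hq : Fintype.card F = q) (h7 : ¬ 7 ∣ q)
    (hn : n < 7 * orderOf (q : ZMod 7)) {H : Type v} [Group H] [Finite H]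
    (i : H →* Matrix.GeneralLinearGroup (Fin n) F) (hi : Function.Injective i) (Q : Sylow 7 H) :
    ∀ x ∈ Q, ∀ y ∈ Q, x * y = y * x := by
  classical
  intro x hx y hy
  have hQ : IsPGroup 7 ((Q : Subgroup H).map i) := Q.isPGroup'.map i
  obtain ⟨S, hS⟩ := hQ.exists_le_sylow
  obtain ⟨e⟩ := H130.GLn.sylow_GL hq h7 n (fun j hj hd h7j => by
    have h1 := (H130.Homo.coprime_orderOf h7).mul_dvd_of_dvd_of_dvd h7j hd
    have h2 := Finset.mem_Ioc.1 hj
    have h3 := Nat.le_of_dvd h2.1 h1
    omega) S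
  have hx' : i x ∈ S := hS ⟨x, hx, rfl⟩
  have hy' : i y ∈ S := hS ⟨y, hy, rfl⟩
  have h1 : (⟨i x, hx'⟩ : S) * ⟨i y, hy'⟩ = ⟨i y, hy'⟩ * ⟨i x, hx'⟩ := by
    apply e.injective
    rw [map_mul, map_mul, mul_comm]
  have h2 := congrArg Subtype.val h1
  apply hi
  rw [map_mul, map_mul]
  exact h2

theorem Hyp.false_of_GL (h : Hyp G) {F : Type w} [Field F] [Fintype F] {q n : ℕ} (hq : Fintype.card F = q)
    (h7 : ¬ 7 ∣ q) (hn : n < 7 * orderOf (q : ZMod 7)) {H : Type v} [Group H] [Finite H]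
    (i : H →* Matrix.GeneralLinearGroup (Fin n) F) (hi : Function.Injective i) (φ : H →* G)
    (hφ : Function.Surjective φ) : False := by
  obtain ⟨Q⟩ : Nonempty (Sylow 7 H) := inferInstance
  exact h.false_of_surj φ hφ Q (comm_of_GL hq h7 hn i hi Q)

/-- a group of order divisible by `49` has an abelian subgroup of order `49` -/
theorem exists_abelian {X : Type v} [Group X] [Finite X] (hX : 49 ∣ Nat.card X) :
    ∃ A : Subgroup X, Nat.card A = 7 ^ 2 ∧ IsMulCommutative A ∧ IsPGroup 7 A := by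
  obtain ⟨A, hA⟩ := Sylow.exists_subgroup_card_pow_prime 7 (n := 2) (by simpa only [_root_.Nat.reducePow] using hX)
  exact ⟨A, hA, IsPGroup.isMulCommutative_of_card_eq_prime_sq hA, IsPGroup.of_card hA⟩

theorem Hyp.false_of_prod (h : Hyp G) {X : Type v} {Y : Type w} [Group X] [Finite X] [Group Y] [Finite Y]
    (hX : 49 ∣ Nat.card X) (hY : 49 ∣ Nat.card Y) (f : X × Y →* G)
    (hf : ∀ z : X × Y, (∃ k : ℕ, z ^ 7 ^ k = 1) → f z = 1 → z = 1) : False := by
  obtain ⟨A, hA, hAc, hAp⟩ := exists_abelian hX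
  obtain ⟨B, hB, hBc, hBp⟩ := exists_abelian hY
  have hp : ∀ z ∈ A.prod B, ∃ k : ℕ, z ^ 7 ^ k = 1 := by
    intro z hz
    obtain ⟨hz1, hz2⟩ := Subgroup.mem_prod.1 hz
    obtain ⟨k, hk⟩ := hAp ⟨z.1, hz1⟩
    obtain ⟨l, hl⟩ := hBp ⟨z.2, hz2⟩
    refine ⟨k + l, Prod.ext ?_ ?_⟩
    · have h1 := congrArg Subtype.val hk
      simp only [Subgroup.coe_pow, Subgroup.coe_one] at h1
      rw [Prod.pow_fst, pow_add, pow_mul, h1, one_pow, Prod.fst_one]
    · have h1 := congrArg Subtype.val hl
      simp only [Subgroup.coe_pow, Subgroup.coe_one] at h1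
      rw [Prod.pow_snd, pow_add, mul_comm, pow_mul, h1, one_pow, Prod.snd_one]
  have hc : Nat.card ((A.prod B).map f) = 7 ^ 4 := by
    have h1 : Function.Injective (f.comp (A.prod B).subtype) := by
      rw [injective_iff_map_eq_one]
      intro z hz
      exact Subtype.ext (hf z.1 (hp z.1 z.2) hz)
    have h2 : (A.prod B).map f = (f.comp (A.prod B).subtype).range := by
      rw [MonoidHom.range_comp, Subgroup.range_subtype]
    rw [h2, ← Nat.card_congr (MonoidHom.ofInjective h1).toEquiv,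
      Nat.card_congr (Subgroup.prodEquiv A B).toEquiv, Nat.card_prod, hA, hB]
    norm_num
  have h1 := h.small ((A.prod B).map f) ?_ ?_
  · rw [hc] at h1
    norm_num at h1
  · constructor
    constructor
    rintro ⟨_, a, ha, rfl⟩ ⟨_, b, hb, rfl⟩
    apply Subtype.ext
    change f a * f b = f b * f a
    rw [← map_mul, ← map_mul]
    congr 1
    obtain ⟨ha1, ha2⟩ := Subgroup.mem_prod.1 ha
    obtain ⟨hb1, hb2⟩ := Subgroup.mem_prod.1 hb
    refine Prod.ext ?_ ?_
    · exact congrArg Subtype.val (hAc.is_comm.comm ⟨a.1, ha1⟩ ⟨b.1, hb1⟩)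
    · exact congrArg Subtype.val (hBc.is_comm.comm ⟨a.2, ha2⟩ ⟨b.2, hb2⟩)
  · intro x
    obtain ⟨_, z, hz, rfl⟩ := x
    obtain ⟨k, hk⟩ := hp z hz
    refine ⟨k, Subtype.ext ?_⟩
    simp only [Subgroup.coe_pow, Subgroup.coe_one]
    rw [← map_pow, hk, map_one]

end Cfsg.Agent.H496.Sev
end

-- part: H496/Sev/PSL
section
/-!
# `Hyp` fails for `PSL_n(q)`, `7 ∤ q` (helper496)
-/

set_option autoImplicit false

namespace Cfsg.Agent.H496.Sev

open Cfsg Matrix Cfsg.Agent.H322.Cent Cfsg.Agent.H130.Homo Cfsg.Agent.H130.GLn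

universe u v w

section Val

variable {q : ℕ}

theorem orderOf_pos7 (h7 : ¬ 7 ∣ q) : 0 < orderOf (q : ZMod 7) := orderOf_pos_zmod h7

theorem orderOf_dvd_six (h7 : ¬ 7 ∣ q) : orderOf (q : ZMod 7) ∣ 6 := orderOf_dvd_sub_one h7

theorem orderOf_cases (h7 : ¬ 7 ∣ q) : orderOf (q : ZMod 7) = 1 ∨ orderOf (q : ZMod 7) = 2 ∨
    orderOf (q : ZMod 7) = 3 ∨ orderOf (q : ZMod 7) = 6 := by
  have h1 := orderOf_dvd_six h7
  have h2 := Nat.le_of_dvd (by norm_num) h1
  have h3 := orderOf_pos7 h7
  interval_cases orderOf (q : ZMod 7) <;> simp_all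

theorem val_pos (h7 : ¬ 7 ∣ q) (hq : 1 < q) : 1 ≤ val 7 q := by
  rw [← val_pow_orderOf h7 hq]
  apply one_le_padicValNat_of_dvd
  · have : 1 < q ^ orderOf (q : ZMod 7) := Nat.one_lt_pow (orderOf_pos7 h7).ne' hq
    omega
  · exact (dvd_pow_sub_one_iff h7 _).2 dvd_rfl

end Val

variable {F : Type w} [Field F] [Fintype F] {q : ℕ}

theorem fortynine_dvd_GL (hq : Fintype.card F = q) (h7 : ¬ 7 ∣ q) {k : ℕ}
    (hk : k < 7 * orderOf (q : ZMod 7)) (hk2 : 2 * orderOf (q : ZMod 7) ≤ k) :
    49 ∣ Nat.card (GeneralLinearGroup (Fin k) F) := by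
  have hq1 := one_lt_q hq
  have h1 := val_GL (r := 7) hq h7 k (fun j hj hd h7j => by
    have h1 := (coprime_orderOf h7).mul_dvd_of_dvd_of_dvd h7j hd
    have h2 := Finset.mem_Ioc.1 hj
    have h3 := Nat.le_of_dvd h2.1 h1
    omega)
  have h2 : 2 ≤ (Nat.card (GeneralLinearGroup (Fin k) F)).factorization 7 := by
    rw [h1]
    have h3 : 2 ≤ k / orderOf (q : ZMod 7) := (Nat.le_div_iff_mul_le (orderOf_pos7 h7)).2 hk2
    have h4 := val_pos h7 hq1
    nlinarith only [h3, h4]
  rw [show (49 : ℕ) = 7 ^ 2 by norm_num]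
  exact (Nat.Prime.pow_dvd_iff_le_factorization (by norm_num) Nat.card_pos.ne').2 h2

/-- the size of the blocks -/
noncomputable def blkSize (q : ℕ) : ℕ := if orderOf (q : ZMod 7) = 1 then 3 else 2 * orderOf (q : ZMod 7)

theorem blkSize_cases (h7 : ¬ 7 ∣ q) :
    (orderOf (q : ZMod 7) = 1 ∧ blkSize q = 3) ∨ (orderOf (q : ZMod 7) = 2 ∧ blkSize q = 4) ∨
      (orderOf (q : ZMod 7) = 3 ∧ blkSize q = 6) ∨ (orderOf (q : ZMod 7) = 6 ∧ blkSize q = 12) := by
  unfold blkSize
  rcases orderOf_cases h7 with h | h | h | h <;> simp [h]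

theorem fortynine_dvd_SL (hq : Fintype.card F = q) (h7 : ¬ 7 ∣ q) :
    49 ∣ Nat.card (SpecialLinearGroup (Fin (blkSize q)) F) := by
  have hq1 := one_lt_q hq
  by_cases h1 : orderOf (q : ZMod 7) = 1
  · have hk : blkSize q = 2 + 1 := by unfold blkSize; rw [if_pos h1]
    rw [hk]
    have h2 := Subgroup.card_dvd_of_injective (H130.SLn.torus F 2) (H130.SLn.torus_injective F 2)
    refine dvd_trans ?_ h2
    rw [Nat.card_fun, Nat.card_fin, Nat.card_units, Nat.card_eq_fintype_card, hq]
    have h3 : 7 ∣ q - 1 := by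
      have := (dvd_pow_sub_one_iff h7 1).2 (by rw [h1])
      rwa [pow_one] at this
    exact pow_dvd_pow_of_dvd h3 2
  · have hk : blkSize q = 2 * orderOf (q : ZMod 7) := by unfold blkSize; rw [if_neg h1]
    rw [hk]
    have h0 := orderOf_pos7 h7
    have h2 := H130.SLn.card_SL_mul hq (F := F) (2 * orderOf (q : ZMod 7)) (by omega)
    have h3 := fortynine_dvd_GL hq h7 (F := F) (k := 2 * orderOf (q : ZMod 7)) (by omega) le_rfl
    rw [← h2] at h3
    refine Nat.Coprime.dvd_of_dvd_mul_right ?_ h3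
    rw [show (49 : ℕ) = 7 ^ 2 by norm_num]
    apply Nat.Coprime.pow_left
    rw [Nat.Prime.coprime_iff_not_dvd (by norm_num)]
    intro h4
    have h5 := (dvd_pow_sub_one_iff h7 1).1 (by rwa [pow_one])
    exact h1 (Nat.dvd_one.1 h5)

theorem eq_one_of_pow {M : Type*} [Monoid M] {c : M} {a k : ℕ} (h1 : c ^ a = 1) (h2 : c ^ 7 ^ k = 1)
    (ha : ¬ 7 ∣ a) : c = 1 := by
  have h3 : orderOf c ∣ Nat.gcd a (7 ^ k) := Nat.dvd_gcd (orderOf_dvd_of_pow_eq_one h1) (orderOf_dvd_of_pow_eq_one h2)
  have h4 : Nat.gcd a (7 ^ k) = 1 :=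
    Nat.Coprime.pow_right k ((Nat.Prime.coprime_iff_not_dvd (by norm_num)).2 ha).symm
  rw [h4, Nat.dvd_one] at h3
  exact orderOf_eq_one_iff.1 h3

/-- a scalar block with a `7`-power order is trivial -/
theorem eq_one_of_scalar_block {K : Type*} [Field K] {k j : ℕ} (hk0 : 0 < k) (hk : ¬ 7 ∣ k)
    {A : SpecialLinearGroup (Fin k) K} {c : K}
    (hA : A.1 = diagonal (fun _ => c)) (hp : A ^ 7 ^ j = 1) : c = 1 := by
  have h1 : c ^ k = 1 := by
    have h := A.2
    rw [hA, det_diagonal, Finset.prod_const, Finset.card_univ, Fintype.card_fin] at h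
    exact h
  have h2 : c ^ 7 ^ j = 1 := by
    have h := congrArg Subtype.val hp
    rw [Matrix.SpecialLinearGroup.coe_pow, hA, diagonal_pow] at h
    have h3 := congrFun (congrFun h ⟨0, hk0⟩) ⟨0, hk0⟩
    rw [diagonal_apply_eq] at h3
    simpa only [_root_.Pi.pow_apply, _root_.Matrix.SpecialLinearGroup.coe_one, _root_.Matrix.one_apply_eq] using h3
  exact eq_one_of_pow h1 h2 hk

/-- the blocks of a scalar block matrix -/
theorem blocks_of_diagonal {K : Type*} [Field K] {k l : ℕ} {A : Matrix (Fin k) (Fin k) K} {B : Matrix (Fin l) (Fin l) K}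
    {c : K} (h : bdm A B = diagonal (fun _ => c)) :
    A = diagonal (fun _ => c) ∧ B = diagonal (fun _ => c) := by
  unfold bdm at h
  have h1 : fromBlocks A 0 0 B = (diagonal (fun _ : Fin (k + l) => c)).submatrix finSumFinEquiv finSumFinEquiv := by
    rw [← h, submatrix_submatrix, Equiv.symm_comp_self, submatrix_id_id]
  rw [submatrix_diagonal_equiv] at h1
  constructor
  · ext i j
    have h2 := congrFun (congrFun h1 (Sum.inl i)) (Sum.inl j)
    rw [fromBlocks_apply₁₁] at h2
    rw [h2]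
    by_cases hij : i = j
    · subst hij; rw [diagonal_apply_eq, diagonal_apply_eq]; rfl
    · rw [diagonal_apply_ne _ hij, diagonal_apply_ne _ (fun e => hij (Sum.inl_injective e))]
  · ext i j
    have h2 := congrFun (congrFun h1 (Sum.inr i)) (Sum.inr j)
    rw [fromBlocks_apply₂₂] at h2
    rw [h2]
    by_cases hij : i = j
    · subst hij; rw [diagonal_apply_eq, diagonal_apply_eq]; rfl
    · rw [diagonal_apply_ne _ hij, diagonal_apply_ne _ (fun e => hij (Sum.inr_injective e))]

theorem psl_false (hq : Fintype.card F = q) (h7 : ¬ 7 ∣ q) {n : ℕ}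
    (h : Hyp (ProjectiveSpecialLinearGroup (Fin n) F)) : False := by
  classical
  by_cases hn : n < 7 * orderOf (q : ZMod 7)
  · exact h.false_of_GL hq h7 hn (SpecialLinearGroup.toGL : SpecialLinearGroup (Fin n) F →* _)
      SpecialLinearGroup.toGL_injective (QuotientGroup.mk' _) (QuotientGroup.mk'_surjective _)
  · have hb := blkSize_cases h7
    obtain ⟨l, rfl⟩ : ∃ l, n = blkSize q + (blkSize q + l) := ⟨n - 2 * blkSize q, by omega⟩
    have hk0 : 0 < blkSize q := by omega
    have hk7 : ¬ 7 ∣ blkSize q := by omega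
    generalize hb' : blkSize q = k at *
    refine h.false_of_prod (X := SpecialLinearGroup (Fin k) F) (Y := SpecialLinearGroup (Fin k) F)
      (hb' ▸ fortynine_dvd_SL hq h7) (hb' ▸ fortynine_dvd_SL hq h7)
      ((QuotientGroup.mk' _).comp (bd.comp (MonoidHom.prodMap (MonoidHom.id _) (bd.comp (MonoidHom.inl _ _))))) ?_
    rintro ⟨A, B⟩ ⟨j, hj⟩ hz
    have h1 : bd (A, bd (B, (1 : SpecialLinearGroup (Fin l) F))) ∈ Subgroup.center _ :=
      (QuotientGroup.eq_one_iff _).1 hz
    obtain ⟨c, hc⟩ := scalar_of_center h1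
    have hc' : bdm A.1 (bdm B.1 (1 : SpecialLinearGroup (Fin l) F).1) = diagonal (fun _ => c) := hc
    obtain ⟨h2, h3⟩ := blocks_of_diagonal hc'
    obtain ⟨h4, -⟩ := blocks_of_diagonal h3
    have hjA : A ^ 7 ^ j = 1 := congrArg Prod.fst hj
    have hc1 := eq_one_of_scalar_block hk0 hk7 h2 hjA
    subst hc1
    refine Prod.ext (Subtype.ext ?_) (Subtype.ext ?_)
    · exact h2.trans (by rw [diagonal_one]; rfl)
    · exact h4.trans (by rw [diagonal_one]; rfl)

end Cfsg.Agent.H496.Sev
end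

-- part: H496/Sev/Val
section
/-!
# Valuations at `7` and transfer of `Hyp` (helper496)
-/

set_option autoImplicit false

namespace Cfsg.Agent.H496.Sev

open Cfsg Cfsg.Agent.H130.Homo

universe u v w

section Arith

variable {q : ℕ}

theorem ord_cases (h7 : ¬ 7 ∣ q) : orderOf (q : ZMod 7) = 1 ∨ orderOf (q : ZMod 7) = 2 ∨
    orderOf (q : ZMod 7) = 3 ∨ orderOf (q : ZMod 7) = 6 := by
  have h1 : orderOf (q : ZMod 7) ∣ 6 := orderOf_dvd_sub_one h7
  have h2 := Nat.le_of_dvd (by norm_num) h1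
  have h3 : 0 < orderOf (q : ZMod 7) := orderOf_pos_zmod h7
  interval_cases orderOf (q : ZMod 7) <;> simp_all

theorem fac_sub_one (h7 : ¬ 7 ∣ q) (hq : 1 < q) {k : ℕ} (hk : k ≠ 0) :
    (q ^ k - 1).factorization 7 = if orderOf (q : ZMod 7) ∣ k then val 7 q + k.factorization 7 else 0 := by
  rw [Nat.factorization_def _ fact7.out]
  split_ifs with h
  · rw [← val_pow_orderOf h7 hq, Nat.factorization_def _ fact7.out]
    have hco := coprime_orderOf h7
    have hd := (dvd_pow_sub_one_iff h7 _).2 dvd_rfl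
    have h0 : 0 < orderOf (q : ZMod 7) := orderOf_pos_zmod h7
    generalize orderOf (q : ZMod 7) = d at *
    obtain ⟨j, rfl⟩ := h
    have hj : j ≠ 0 := by rintro rfl; simp at hk
    have h1 := padicValNat.pow_sub_pow (p := 7) (x := q ^ d) (y := 1) (by norm_num)
      (Nat.one_lt_pow h0.ne' hq) hd (fun h => h7 (fact7.out.dvd_of_dvd_pow h)) hj
    rw [one_pow, ← pow_mul] at h1
    rw [h1, padicValNat.mul h0.ne' hj, padicValNat.eq_zero_of_not_dvd (n := d), zero_add]
    rwa [← Nat.Prime.coprime_iff_not_dvd fact7.out]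
  · exact padicValNat.eq_zero_of_not_dvd (fun h1 => h ((dvd_pow_sub_one_iff h7 k).1 h1))

theorem sub_one_ne (hq : 1 < q) {k : ℕ} (hk : k ≠ 0) : q ^ k - 1 ≠ 0 := by
  have := Nat.one_lt_pow hk hq
  omega

theorem fac_add_one (h7 : ¬ 7 ∣ q) (hq : 1 < q) {k : ℕ} (hk : k ≠ 0) :
    (q ^ k + 1).factorization 7 =
      if orderOf (q : ZMod 7) ∣ 2 * k ∧ ¬ orderOf (q : ZMod 7) ∣ k then val 7 q + k.factorization 7 else 0 := by
  have h1 : (q ^ (2 * k) - 1) = (q ^ k + 1) * (q ^ k - 1) := by
    rw [mul_comm 2 k, pow_mul, ← Nat.sq_sub_sq, one_pow]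
  have h2 := congrArg (fun n => Nat.factorization n 7) h1
  rw [Nat.factorization_mul (show q ^ k + 1 ≠ 0 by omega) (sub_one_ne hq hk), Finsupp.add_apply,
    fac_sub_one h7 hq hk, fac_sub_one h7 hq (by omega), Nat.factorization_mul (by norm_num) hk,
    Finsupp.add_apply, show (2 : ℕ).factorization 7 = 0 from Nat.factorization_eq_zero_of_not_dvd (by norm_num),
    zero_add] at h2
  by_cases h3 : orderOf (q : ZMod 7) ∣ k
  · rw [if_pos h3, if_pos (h3.mul_left 2)] at h2
    rw [if_neg (by tauto)]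
    omega
  · rw [if_neg h3, add_zero] at h2
    rw [← h2]
    by_cases h4 : orderOf (q : ZMod 7) ∣ 2 * k
    · rw [if_pos h4, if_pos ⟨h4, h3⟩]
    · rw [if_neg h4, if_neg (by tauto)]

theorem fac_pow (h7 : ¬ 7 ∣ q) (k : ℕ) : (q ^ k).factorization 7 = 0 :=
  Nat.factorization_eq_zero_of_not_dvd (fun h => h7 (fact7.out.dvd_of_dvd_pow h))

theorem fac_mul {a b : ℕ} (ha : a ≠ 0) (hb : b ≠ 0) :
    (a * b).factorization 7 = a.factorization 7 + b.factorization 7 := by
  rw [Nat.factorization_mul ha hb, Finsupp.add_apply]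

theorem fac_seven {n : ℕ} (h : ¬ 7 ∣ n) : n.factorization 7 = 0 := Nat.factorization_eq_zero_of_not_dvd h

end Arith

/-! ### transfer -/

theorem eq_one_of_coprime {G : Type v} [Group G] {g : G} {k n : ℕ} (h1 : g ^ 7 ^ k = 1) (h2 : g ^ n = 1)
    (hn : ¬ 7 ∣ n) : g = 1 := by
  have h3 : orderOf g ∣ Nat.gcd n (7 ^ k) := Nat.dvd_gcd (orderOf_dvd_of_pow_eq_one h2) (orderOf_dvd_of_pow_eq_one h1)
  have h4 : Nat.gcd n (7 ^ k) = 1 :=
    Nat.Coprime.pow_right k ((Nat.Prime.coprime_iff_not_dvd (by norm_num)).2 hn).symm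
  rw [h4, Nat.dvd_one] at h3
  exact orderOf_eq_one_iff.1 h3

/-- `Hyp` for a quotient by a normal `7'`-subgroup implies `Hyp` for the group -/
theorem Hyp.of_surj {G : Type u} [Group G] [Finite G] {H : Type v} [Group H] [Finite H] (φ : H →* G)
    (hφ : Function.Surjective φ) (hk : ¬ 7 ∣ Nat.card φ.ker) (h : Hyp G) : Hyp H := by
  have hc : Nat.card H = Nat.card G * Nat.card φ.ker := by
    rw [← Nat.card_congr (QuotientGroup.quotientKerEquivOfSurjective φ hφ).toEquiv]
    exact Subgroup.card_eq_card_quotient_mul_card_subgroup _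
  constructor
  · rw [hc, fac_mul Nat.card_pos.ne' Nat.card_pos.ne', h.val, Nat.factorization_eq_zero_of_not_dvd hk]
  · intro A hA hp
    have h1 : Function.Injective (φ.comp A.subtype) := by
      rw [injective_iff_map_eq_one]
      intro a ha
      obtain ⟨k, hk'⟩ := hp a
      apply Subtype.ext
      have h2 : (⟨a.1, ha⟩ : φ.ker) ^ Nat.card φ.ker = 1 := pow_card_eq_one'
      have h3 := congrArg Subtype.val h2
      exact eq_one_of_coprime (congrArg Subtype.val hk') h3 hk
    have h2 : A.map φ = (φ.comp A.subtype).range := by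
      rw [MonoidHom.range_comp, Subgroup.range_subtype]
    have h3 : Nat.card (A.map φ) = Nat.card A := by
      rw [h2]
      exact (Nat.card_congr (MonoidHom.ofInjective h1).toEquiv).symm
    rw [← h3]
    refine h.small _ ?_ (hp.map φ)
    constructor
    constructor
    rintro ⟨_, a, ha, rfl⟩ ⟨_, b, hb, rfl⟩
    apply Subtype.ext
    change φ a * φ b = φ b * φ a
    rw [← map_mul, ← map_mul]
    exact congrArg φ (congrArg Subtype.val (hA.is_comm.comm ⟨a, ha⟩ ⟨b, hb⟩))

/-- `Hyp` for a subgroup which contains all `7`-elements -/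
theorem Hyp.of_subgroup {G : Type u} [Group G] [Finite G] (N : Subgroup G)
    (hN : ∀ g : G, ∀ k : ℕ, g ^ 7 ^ k = 1 → g ∈ N) (h : Hyp N) : Hyp G := by
  have key : ∀ A : Subgroup G, IsPGroup 7 A → A ≤ N := by
    intro A hA a ha
    obtain ⟨k, hk⟩ := hA ⟨a, ha⟩
    exact hN a k (congrArg Subtype.val hk)
  constructor
  · obtain ⟨P⟩ : Nonempty (Sylow 7 G) := inferInstance
    have h1 : Nat.card P ∣ Nat.card N := Subgroup.card_dvd_of_le (key P P.isPGroup')
    rw [P.card_eq_multiplicity] at h1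
    have h2 := (Nat.Prime.pow_dvd_iff_le_factorization fact7.out Nat.card_pos.ne').1 h1
    have h3 := (Nat.factorization_le_iff_dvd Nat.card_pos.ne' Nat.card_pos.ne').2 (Subgroup.card_subgroup_dvd_card N) 7
    rw [h.val] at h2 h3
    omega
  · intro A hA hp
    have h1 := h.small (A.subgroupOf N) ?_ ?_
    · rwa [Nat.card_congr (Subgroup.subgroupOfEquivOfLe (key A hp)).toEquiv] at h1
    · constructor
      constructor
      intro a b
      apply Subtype.ext
      apply Subtype.ext
      have h2 := congrArg Subtype.val (hA.is_comm.comm ⟨a.1.1, a.2⟩ ⟨b.1.1, b.2⟩)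
      exact h2
    · intro a
      obtain ⟨k, hk⟩ := hp ⟨a.1.1, a.2⟩
      have h2 := congrArg Subtype.val hk
      exact ⟨k, Subtype.ext (Subtype.ext h2)⟩

theorem Hyp.of_quot {H : Type v} [Group H] [Finite H] (N : Subgroup H) [N.Normal]
    (hk : ¬ 7 ∣ Nat.card N) (h : Hyp (H ⧸ N)) : Hyp H :=
  Hyp.of_surj (QuotientGroup.mk' N) (QuotientGroup.mk'_surjective N)
    (by rwa [QuotientGroup.ker_mk']) h

theorem Hyp.not_three (h7 : ℕ) {G : Type u} [Group G] (h : Hyp G) (h3 : (Nat.card G).factorization 7 = 3 * h7) :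
    False := by
  rw [h.val] at h3
  omega

end Cfsg.Agent.H496.Sev
end

-- part: H496/Sev/PSp
section
/-!
# `Hyp` fails for `PSp_2m(q)`, `7 ∤ q` (helper496)
-/

set_option autoImplicit false

namespace Cfsg.Agent.H496.Sev

open Cfsg Matrix Cfsg.Agent.H130.Homo

universe u v w

section Arith

variable {q : ℕ}

theorem fac_prodB (h7 : ¬ 7 ∣ q) (hq : 1 < q) (m : ℕ) :
    (∏ i ∈ Finset.range m, (q ^ (2 * (i + 1)) - 1)).factorization 7 =
      ∑ i ∈ Finset.range m, if orderOf (q : ZMod 7) ∣ 2 * (i + 1) then val 7 q + (i + 1).factorization 7 else 0 := by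
  rw [Nat.factorization_prod (fun i _ => sub_one_ne hq (by omega)), Finset.sum_apply']
  refine Finset.sum_congr rfl fun i _ => ?_
  rw [fac_sub_one h7 hq (by omega), fac_mul (by norm_num) (by omega), fac_seven (n := 2) (by norm_num), zero_add]

theorem fac_prodB_three (h7 : ¬ 7 ∣ q) (hq : 1 < q) (h3 : orderOf (q : ZMod 7) = 3) {m : ℕ} (hm : 9 ≤ m)
    (hm' : m ≤ 11) : (∏ i ∈ Finset.range m, (q ^ (2 * (i + 1)) - 1)).factorization 7 = 3 * val 7 q := by
  rw [fac_prodB h7 hq, h3]
  interval_cases m <;> simp only [Finset.sum_range_succ, fac_seven, _root_.Finset.sum_range_succ, _root_.Finset.range_one, _root_.Finset.sum_singleton, _root_.zero_add, _root_.mul_one, _root_.Nat.reduceDvd, ↓ _root_.reduceIte, _root_.Nat.reduceAdd, _root_.Nat.reduceMul, _root_.add_zero, _root_.not_false_eq_true, _root_.Cfsg.Agent.H496.Sev.fac_seven] <;> ring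

/-- size of blocks -/
noncomputable def blkC (q : ℕ) : ℕ := if orderOf (q : ZMod 7) ≤ 2 then 2 else 6

theorem blkC_cases (h7 : ¬ 7 ∣ q) :
    (orderOf (q : ZMod 7) = 1 ∧ blkC q = 2) ∨ (orderOf (q : ZMod 7) = 2 ∧ blkC q = 2) ∨
      (orderOf (q : ZMod 7) = 3 ∧ blkC q = 6) ∨ (orderOf (q : ZMod 7) = 6 ∧ blkC q = 6) := by
  unfold blkC
  rcases ord_cases h7 with h | h | h | h <;> simp [h]

/-- `7` divides `q ^ k - 1` and `q ^ 2k - 1`, with `k` the size of the blocks -/
theorem seven_dvd_blk (h7 : ¬ 7 ∣ q) : 7 ∣ q ^ blkC q - 1 := by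
  rw [dvd_pow_sub_one_iff h7]
  rcases blkC_cases h7 with ⟨h, h'⟩ | ⟨h, h'⟩ | ⟨h, h'⟩ | ⟨h, h'⟩ <;> rw [h, h'] <;> norm_num

theorem seven_dvd_blk2 (h7 : ¬ 7 ∣ q) : 7 ∣ q ^ (2 * blkC q) - 1 := by
  rw [dvd_pow_sub_one_iff h7]
  exact ((dvd_pow_sub_one_iff h7 _).1 (seven_dvd_blk h7)).mul_left 2

theorem fortynine_dvd_prodB (h7 : ¬ 7 ∣ q) : 49 ∣ ∏ i ∈ Finset.range (blkC q), (q ^ (2 * (i + 1)) - 1) := by
  have h1 := seven_dvd_blk h7
  have h2 := seven_dvd_blk2 h7
  have hb : blkC q = 2 ∨ blkC q = 6 := by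
    rcases blkC_cases h7 with ⟨-, h⟩ | ⟨-, h⟩ | ⟨-, h⟩ | ⟨-, h⟩ <;> simp [h]
  rcases hb with hb | hb
  · rw [hb] at h1 h2 ⊢
    rw [Finset.prod_range_succ, Finset.prod_range_succ, Finset.prod_range_zero, one_mul]
    exact mul_dvd_mul h1 h2
  · rw [hb] at h1 h2 ⊢
    have h3 : ({2, 5} : Finset ℕ) ⊆ Finset.range 6 := by decide
    have h4 := Finset.prod_dvd_prod_of_subset _ _ (fun i => q ^ (2 * (i + 1)) - 1) h3
    refine dvd_trans ?_ h4
    rw [Finset.prod_pair (by norm_num)]
    exact mul_dvd_mul h1 h2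

end Arith

variable {F : Type w} [Field F] [Fintype F] {q : ℕ}

theorem psp_false (hq : Fintype.card F = q) (h7 : ¬ 7 ∣ q) {m : ℕ} (hm : 2 ≤ m)
    (h : Hyp (PSp m F)) : False := by
  classical
  have hq1 : 1 < q := hq ▸ Fintype.one_lt_card
  by_cases hn : m + m < 7 * orderOf (q : ZMod 7)
  · exact h.false_of_GL hq h7 hn (H130.Spn.toGL m F) (H130.Spn.toGL_injective m F) (QuotientGroup.mk' _)
      (QuotientGroup.mk'_surjective _)
  · have h' : Hyp (symplecticGroup (Fin m) F) := by
      refine Hyp.of_quot (Subgroup.center _) ?_ h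
      rw [S0246.result hq m (by omega)]
      intro h1
      have h2 := Nat.le_of_dvd (by norm_num) (h1.trans (Nat.gcd_dvd_left 2 (q - 1)))
      omega
    have hc := blkC_cases h7
    by_cases hm2 : 2 * blkC q ≤ m
    · obtain ⟨l, rfl⟩ : ∃ l, m = blkC q + (blkC q + l) := ⟨m - 2 * blkC q, by omega⟩
      have hd := fortynine_dvd_prodB h7
      generalize hb : blkC q = k at *
      have hX : 49 ∣ Nat.card (symplecticGroup (Fin k) F) := by
        rw [S0245.result hq]
        exact hd.mul_left _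
      refine h'.false_of_prod hX hX ((H376.SpEmb.reidx (finSumFinEquiv (m := k) (n := k + l))).comp
        ((H376.SpEmb.blk (Fin k) (Fin (k + l))).comp (MonoidHom.prodMap (MonoidHom.id _)
          ((H376.SpEmb.reidx (finSumFinEquiv (m := k) (n := l))).comp
            ((H376.SpEmb.blk (Fin k) (Fin l)).comp (MonoidHom.inl _ _)))))) ?_
      intro z _ hz
      have hi : Function.Injective ((H376.SpEmb.reidx (F := F) (finSumFinEquiv (m := k) (n := k + l))).comp
        ((H376.SpEmb.blk (Fin k) (Fin (k + l))).comp (MonoidHom.prodMap (MonoidHom.id _)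
          ((H376.SpEmb.reidx (finSumFinEquiv (m := k) (n := l))).comp
            ((H376.SpEmb.blk (Fin k) (Fin l)).comp (MonoidHom.inl _ _)))))) := by
        rw [MonoidHom.coe_comp, MonoidHom.coe_comp]
        refine (H376.SpEmb.reidx_injective _).comp ((H376.SpEmb.blk_injective _ _).comp ?_)
        have hi2 : Function.Injective ((H376.SpEmb.reidx (F := F) (finSumFinEquiv (m := k) (n := l))).comp
            ((H376.SpEmb.blk (Fin k) (Fin l)).comp (MonoidHom.inl _ _))) := by
          rw [MonoidHom.coe_comp, MonoidHom.coe_comp]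
          exact (H376.SpEmb.reidx_injective _).comp ((H376.SpEmb.blk_injective _ _).comp (fun a b hab =>
            congrArg Prod.fst hab))
        exact Function.injective_id.prodMap hi2
      exact hi (hz.trans (map_one _).symm)
    · have h3 : orderOf (q : ZMod 7) = 3 := by omega
      refine h'.not_three (val 7 q) ?_
      rw [S0245.result hq, fac_mul (pow_ne_zero _ (by omega))
        (Finset.prod_ne_zero_iff.2 (fun i _ => sub_one_ne hq1 (by omega))), fac_pow h7,
        fac_prodB_three h7 hq1 h3 (by omega) (by omega), zero_add]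

end Cfsg.Agent.H496.Sev
end

-- part: H496/Sev/PSU
section
/-!
# `Hyp` fails for `PSU_n(q)`, `7 ∤ q` (helper496)
-/

set_option autoImplicit false

namespace Cfsg.Agent.H496.Sev

open Cfsg Matrix Cfsg.Agent.H130.Homo Cfsg.Agent.H322.Cent

universe u v w

section Arith

variable {q : ℕ}



theorem prodU_ne (hq : 1 < q) (n : ℕ) :
    ∏ i ∈ Finset.range n, (if Even i then q ^ (i + 1) + 1 else q ^ (i + 1) - 1) ≠ 0 := by
  rw [Finset.prod_ne_zero_iff]
  intro i _
  split_ifs
  · omega
  · exact sub_one_ne hq (by omega)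

theorem fac_prodU (h7 : ¬ 7 ∣ q) (hq : 1 < q) (n : ℕ) :
    (∏ i ∈ Finset.range n, (if Even i then q ^ (i + 1) + 1 else q ^ (i + 1) - 1)).factorization 7 =
      ∑ i ∈ Finset.range n, (if Even i then
        (if orderOf (q : ZMod 7) ∣ 2 * (i + 1) ∧ ¬ orderOf (q : ZMod 7) ∣ i + 1 then val 7 q + (i + 1).factorization 7 else 0)
        else (if orderOf (q : ZMod 7) ∣ i + 1 then val 7 q + (i + 1).factorization 7 else 0)) := by
  rw [Nat.factorization_prod, Finset.sum_apply']
  · refine Finset.sum_congr rfl fun i _ => ?_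
    by_cases h : Even i
    · rw [if_pos h, if_pos h, fac_add_one h7 hq (by omega)]
    · rw [if_neg h, if_neg h, fac_sub_one h7 hq (by omega)]
  · intro i _
    split_ifs
    · omega
    · exact sub_one_ne hq (by omega)

/-- size of blocks -/
noncomputable def blkU (q : ℕ) : ℕ :=
  if orderOf (q : ZMod 7) = 1 then 4 else if orderOf (q : ZMod 7) = 2 then 3 else
    if orderOf (q : ZMod 7) = 3 then 12 else 6

theorem blkU_cases (h7 : ¬ 7 ∣ q) :
    (orderOf (q : ZMod 7) = 1 ∧ blkU q = 4) ∨ (orderOf (q : ZMod 7) = 2 ∧ blkU q = 3) ∨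
      (orderOf (q : ZMod 7) = 3 ∧ blkU q = 12) ∨ (orderOf (q : ZMod 7) = 6 ∧ blkU q = 6) := by
  unfold blkU
  rcases ord_cases h7 with h | h | h | h <;> simp [h]

end Arith

variable {F : Type w} [Field F] [Fintype F] {q : ℕ}

theorem orderOf_sq (n : ℕ) : ((n ^ 2 : ℕ) : ZMod 7) = (n : ZMod 7) ^ 2 := by push_cast; rfl

theorem fac_SU (hF : Fintype.card F = q ^ 2) (h7 : ¬ 7 ∣ q) (hq1 : 1 < q) :
    (Nat.card (SU (blkU q) F q)).factorization 7 = 2 * val 7 q := by
  have h0 : 1 ≤ blkU q := by have := blkU_cases h7; omega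
  have h := S0278.result hF (blkU q) h0
  have h1 := congrArg (fun n => Nat.factorization n 7) h
  rw [fac_mul (by omega) Nat.card_pos.ne', fac_mul (pow_ne_zero _ (by omega)) (prodU_ne hq1 _), fac_pow h7,
    fac_prodU h7 hq1, zero_add] at h1
  have h2 := fac_add_one h7 hq1 (k := 1) (by omega)
  rw [pow_one] at h2
  rw [h2] at h1
  rcases blkU_cases h7 with ⟨h3, h4⟩ | ⟨h3, h4⟩ | ⟨h3, h4⟩ | ⟨h3, h4⟩
  · rw [h3] at h1
    rw [h4] at h1 ⊢
    simp only [Finset.sum_range_succ, fac_seven, Nat.even_iff, _root_.mul_one, _root_.isUnit_iff_eq_one, _root_.IsUnit.dvd, _root_.dvd_refl, _root_.not_true_eq_false, _root_.and_false, ↓ _root_.reduceIte, _root_.zero_add, _root_.Nat.even_iff, _root_.Finset.sum_range_succ, _root_.Finset.range_one, _root_.Finset.sum_singleton, _root_.Nat.zero_mod, _root_.Nat.mod_succ, _root_.one_ne_zero, _root_.Nat.reduceAdd, _root_.Nat.reduceDvd, _root_.not_false_eq_true, _root_.Cfsg.Agent.H496.Sev.fac_seven, _root_.add_zero, _root_.Nat.mod_self, _root_.Nat.reduceMod]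 at h1
    omega
  · rw [h3] at h1
    rw [h4] at h1 ⊢
    simp only [Finset.sum_range_succ, fac_seven, Nat.even_iff, _root_.mul_one, _root_.dvd_refl, _root_.Nat.dvd_one, _root_.OfNat.ofNat_ne_one, _root_.not_false_eq_true, _root_.and_self, ↓ _root_.reduceIte, _root_.Nat.factorization_one, _root_.Finsupp.coe_zero, _root_.Pi.zero_apply, _root_.add_zero, _root_.Nat.even_iff, _root_.dvd_mul_right, _root_.Nat.two_dvd_ne_zero, _root_.true_and, _root_.Finset.sum_range_succ, _root_.Finset.range_one, _root_.Finset.sum_singleton, _root_.Nat.zero_mod, _root_.zero_add, _root_.Nat.mod_succ, _root_.one_ne_zero, _root_.Nat.reduceAdd, _root_.Nat.reduceDvd, _root_.Cfsg.Agent.H496.Sev.fac_seven, _root_.Nat.mod_self, _root_.Nat.reduceMod] at h1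
    omega
  · rw [h3] at h1
    rw [h4] at h1 ⊢
    simp only [Finset.sum_range_succ, fac_seven, Nat.even_iff, _root_.mul_one, _root_.Nat.reduceDvd, _root_.Nat.dvd_one, _root_.OfNat.ofNat_ne_one, _root_.not_false_eq_true, _root_.and_true, ↓ _root_.reduceIte, _root_.zero_add, _root_.Nat.even_iff, _root_.Finset.sum_range_succ, _root_.Finset.range_one, _root_.Finset.sum_singleton, _root_.Nat.zero_mod, _root_.Nat.mod_succ, _root_.one_ne_zero, _root_.Nat.reduceAdd, _root_.add_zero, _root_.Nat.mod_self, _root_.Nat.reduceMul, _root_.dvd_refl, _root_.not_true_eq_false, _root_.and_false, _root_.Nat.reduceMod, _root_.Cfsg.Agent.H496.Sev.fac_seven] at h1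
    omega
  · rw [h3] at h1
    rw [h4] at h1 ⊢
    simp only [Finset.sum_range_succ, fac_seven, Nat.even_iff, _root_.mul_one, _root_.Nat.reduceDvd, _root_.Nat.dvd_one, _root_.OfNat.ofNat_ne_one, _root_.not_false_eq_true, _root_.and_true, ↓ _root_.reduceIte, _root_.zero_add, _root_.Nat.even_iff, _root_.Finset.sum_range_succ, _root_.Finset.range_one, _root_.Finset.sum_singleton, _root_.Nat.zero_mod, _root_.Nat.mod_succ, _root_.one_ne_zero, _root_.Nat.reduceAdd, _root_.add_zero, _root_.Nat.mod_self, _root_.Nat.reduceMul, _root_.dvd_refl, _root_.and_self, _root_.Cfsg.Agent.H496.Sev.fac_seven, _root_.Nat.reduceMod] at h1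
    omega

theorem fortynine_dvd_of_fac {n a : ℕ} (hn : n ≠ 0) (h : n.factorization 7 = 2 * a) (ha : 1 ≤ a) : 49 ∣ n := by
  rw [show (49 : ℕ) = 7 ^ 2 by norm_num]
  exact (Nat.Prime.pow_dvd_iff_le_factorization (by norm_num) hn).2 (by omega)

theorem psu_false (hF : Fintype.card F = q ^ 2) (h7 : ¬ 7 ∣ q) {n : ℕ} (hn3 : 3 ≤ n)
    (h : Hyp (PSU n F q)) : False := by
  classical
  have hF1 : 1 < Fintype.card F := Fintype.one_lt_card
  have hq1 : 1 < q := by
    rw [hF] at hF1
    by_contra hc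
    have : q ^ 2 ≤ 1 ^ 2 := Nat.pow_le_pow_left (by omega) 2
    omega
  have h7' : ¬ 7 ∣ q ^ 2 := fun h => h7 (fact7.out.dvd_of_dvd_pow h)
  have ho : orderOf ((q ^ 2 : ℕ) : ZMod 7) = orderOf (q : ZMod 7) / Nat.gcd (orderOf (q : ZMod 7)) 2 := by
    rw [orderOf_sq, orderOf_pow' _ (by norm_num)]
  have hb := blkU_cases h7
  have ho' : (orderOf (q : ZMod 7) ≤ 2 ∧ orderOf ((q ^ 2 : ℕ) : ZMod 7) = 1) ∨
      (3 ≤ orderOf (q : ZMod 7) ∧ orderOf ((q ^ 2 : ℕ) : ZMod 7) = 3) := by
    rw [ho]
    rcases hb with ⟨h3, h4⟩ | ⟨h3, h4⟩ | ⟨h3, h4⟩ | ⟨h3, h4⟩ <;> rw [h3] <;> norm_num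
  by_cases hn : n < 7 * orderOf ((q ^ 2 : ℕ) : ZMod 7)
  · exact h.false_of_GL hF h7' hn ((SpecialLinearGroup.toGL : SpecialLinearGroup (Fin n) F →* _).comp (SU n F q).subtype)
      (SpecialLinearGroup.toGL_injective.comp Subtype.val_injective) (QuotientGroup.mk' _)
      (QuotientGroup.mk'_surjective _)
  · by_cases hn2 : 2 * blkU q ≤ n
    · obtain ⟨l, rfl⟩ : ∃ l, n = blkU q + (blkU q + l) := ⟨n - 2 * blkU q, by omega⟩
      have hk0 : 0 < blkU q := by omega
      have hk7 : ¬ 7 ∣ blkU q := by omega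
      have hX : 49 ∣ Nat.card (SU (blkU q) F q) :=
        fortynine_dvd_of_fac Nat.card_pos.ne' (fac_SU hF h7 hq1) (val_pos h7 hq1)
      generalize hb' : blkU q = k at *
      refine h.false_of_prod (X := SU k F q) (Y := SU k F q) hX hX
        ((QuotientGroup.mk' _).comp (bdU.comp (MonoidHom.prodMap (MonoidHom.id _) (bdU.comp (MonoidHom.inl _ _))))) ?_
      rintro ⟨A, B⟩ ⟨j, hj⟩ hz
      have h1 : bdU (A, bdU (B, (1 : SU l F q))) ∈ Subgroup.center _ :=
        (QuotientGroup.eq_one_iff _).1 hz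
      obtain ⟨c, hc⟩ := scalar_of_centerU hF hn3 h1
      have hc' : bdm A.1.1 (bdm B.1.1 (1 : SU l F q).1.1) = diagonal (fun _ => c) := hc
      obtain ⟨h2, h3⟩ := blocks_of_diagonal hc'
      obtain ⟨h4, -⟩ := blocks_of_diagonal h3
      have hjA : A.1 ^ 7 ^ j = 1 := congrArg (fun x => (Prod.fst x).1) hj
      have hc1 := eq_one_of_scalar_block hk0 hk7 h2 hjA
      subst hc1
      refine Prod.ext (Subtype.ext (Subtype.ext ?_)) (Subtype.ext (Subtype.ext ?_))
      · exact h2.trans (by rw [diagonal_one]; rfl)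
      · exact h4.trans (by rw [diagonal_one]; rfl)
    · have h8 := S0280.result hF n (by omega)
      have h9 := congrArg (fun n => Nat.factorization n 7) h8
      have h10 : Nat.gcd n (q + 1) ≠ 0 := by
        intro h
        have := Nat.eq_zero_of_gcd_eq_zero_left h
        omega
      have hq7 : ¬ 7 ∣ q + 1 := by
        intro h11
        have h12 : 7 ∣ q ^ 2 - 1 := by
          have : q ^ 2 - 1 = (q + 1) * (q - 1) := by rw [← Nat.sq_sub_sq, one_pow]
          rw [this]
          exact h11.mul_right _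
        have h13 := (dvd_pow_sub_one_iff h7 _).1 h12
        have h14 : ¬ 7 ∣ q - 1 := by omega
        have h15 : ¬ orderOf (q : ZMod 7) ∣ 1 := by
          rw [← dvd_pow_sub_one_iff h7, pow_one]
          exact h14
        have h16 := Nat.le_of_dvd (by norm_num) h13
        have h17 : orderOf (q : ZMod 7) ≠ 1 := fun h => h15 (by rw [h])
        (clear * - hb ho' hn hn2 h16 h17; omega)
      rw [fac_mul h10 (Nat.mul_ne_zero (by omega) Nat.card_pos.ne'), fac_mul (by omega) Nat.card_pos.ne',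
        fac_mul (pow_ne_zero _ (by omega)) (prodU_ne hq1 _), fac_pow h7, fac_prodU h7 hq1, zero_add, h.val,
        fac_seven (fun h => hq7 (h.trans (Nat.gcd_dvd_right _ _))), fac_seven hq7, zero_add, zero_add] at h9
      have h18 : (orderOf (q : ZMod 7) = 1 ∧ n = 7) ∨ (orderOf (q : ZMod 7) = 3 ∧ (n = 21 ∨ n = 22 ∨ n = 23)) := by
        (clear * - hb ho' hn hn2; omega)
      rcases h18 with ⟨h18, rfl⟩ | ⟨h18, rfl | rfl | rfl⟩
      · rw [h18] at h9
        simp only [Finset.sum_range_succ, fac_seven, Nat.even_iff, _root_.Nat.even_iff, _root_.isUnit_iff_eq_one, _root_.IsUnit.dvd, _root_.not_true_eq_false, _root_.and_false, ↓ _root_.reduceIte, _root_.Finset.sum_range_succ, _root_.Finset.range_one, _root_.Finset.sum_singleton, _root_.Nat.zero_mod, _root_.Nat.mod_succ, _root_.one_ne_zero, _root_.Nat.reduceAdd, _root_.Nat.reduceDvd, _root_.not_false_eq_true, _root_.Cfsg.Agent.H496.Sev.fac_seven, _root_.add_zero, _root_.zero_add, _root_.Nat.mod_self, _root_.Nat.reduceMod]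 at h9
        omega
      · rw [h18] at h9
        simp only [Finset.sum_range_succ, fac_seven, Nat.even_iff, _root_.Nat.even_iff, _root_.Finset.sum_range_succ, _root_.Finset.range_one, _root_.Finset.sum_singleton, _root_.Nat.zero_mod, ↓ _root_.reduceIte, _root_.zero_add, _root_.mul_one, _root_.Nat.reduceDvd, _root_.Nat.dvd_one, _root_.OfNat.ofNat_ne_one, _root_.not_false_eq_true, _root_.and_true, _root_.Nat.mod_succ, _root_.one_ne_zero, _root_.Nat.reduceAdd, _root_.add_zero, _root_.Nat.mod_self, _root_.Nat.reduceMul, _root_.dvd_refl, _root_.not_true_eq_false, _root_.and_false, _root_.Nat.reduceMod, _root_.Cfsg.Agent.H496.Sev.fac_seven] at h9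
        omega
      · rw [h18] at h9
        simp only [Finset.sum_range_succ, fac_seven, Nat.even_iff, _root_.Nat.even_iff, _root_.Finset.sum_range_succ, _root_.Finset.range_one, _root_.Finset.sum_singleton, _root_.Nat.zero_mod, ↓ _root_.reduceIte, _root_.zero_add, _root_.mul_one, _root_.Nat.reduceDvd, _root_.Nat.dvd_one, _root_.OfNat.ofNat_ne_one, _root_.not_false_eq_true, _root_.and_true, _root_.Nat.mod_succ, _root_.one_ne_zero, _root_.Nat.reduceAdd, _root_.add_zero, _root_.Nat.mod_self, _root_.Nat.reduceMul, _root_.dvd_refl, _root_.not_true_eq_false, _root_.and_false, _root_.Nat.reduceMod, _root_.Cfsg.Agent.H496.Sev.fac_seven] at h9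
        omega
      · rw [h18] at h9
        simp only [Finset.sum_range_succ, fac_seven, Nat.even_iff, _root_.Nat.even_iff, _root_.Finset.sum_range_succ, _root_.Finset.range_one, _root_.Finset.sum_singleton, _root_.Nat.zero_mod, ↓ _root_.reduceIte, _root_.zero_add, _root_.mul_one, _root_.Nat.reduceDvd, _root_.Nat.dvd_one, _root_.OfNat.ofNat_ne_one, _root_.not_false_eq_true, _root_.and_true, _root_.Nat.mod_succ, _root_.one_ne_zero, _root_.Nat.reduceAdd, _root_.add_zero, _root_.Nat.mod_self, _root_.Nat.reduceMul, _root_.dvd_refl, _root_.not_true_eq_false, _root_.and_false, _root_.Nat.reduceMod, _root_.Cfsg.Agent.H496.Sev.fac_seven] at h9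
        omega

end Cfsg.Agent.H496.Sev
end

-- part: H496/Sev/POm
section
/-!
# `Hyp` fails for the simple orthogonal groups over a field of order `q`, `7 ∤ q` (helper496)
-/

set_option autoImplicit false
set_option linter.style.haveILetI false

namespace Cfsg.Agent.H496.Sev

open Cfsg Matrix QuadraticMap Cfsg.Agent.H130.Homo Cfsg.Agent.LieClassical.OmegaReindex

universe u v w

section Trans

variable {F : Type w} [Field F] [Finite F] {ι : Type} [Fintype ι] [DecidableEq ι]

theorem mul_self_mem (Q : QuadraticForm F (ι → F)) (hQ : (polarBilin Q).Nondegenerate)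
    (h5 : 5 ≤ Fintype.card ι) (g : isometryGroup F ⇑Q) : g * g ∈ Omega F ⇑Q := by
  by_cases h2 : (2 : F) = 0
  · haveI : Nonempty ι := by
      rw [← Fintype.card_pos_iff]
      omega
    have h := Cfsg.Agent.ClassicalGeometry.OrthDickson.index_commutator_two Q h2 hQ (Or.inr (by omega))
    exact Subgroup.mul_self_mem_of_index_two h g
  · exact Cfsg.Agent.ClassicalGeometry.SiegelGen.mul_self_mem_commutator h2 Q hQ g

theorem Hyp.iso_of_POmega (Q : QuadraticForm F (ι → F)) (hQ : (polarBilin Q).Nondegenerate)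
    (h5 : 5 ≤ Fintype.card ι) (hs : ∃ u : ι → F, u ≠ 0 ∧ Q u = 0) (h : Hyp (POmega F ⇑Q)) :
    Hyp (isometryGroup F ⇑Q) := by
  have h1 : Hyp (Omega F ⇑Q) := by
    refine Hyp.of_quot (Subgroup.center _) ?_ h
    intro h7
    obtain ⟨z, hz⟩ := exists_prime_orderOf_dvd_card' 7 h7
    have h2 := (LieClassical.OrthCenter.mem_center_omega_iff hQ (by omega) hs z.1).1 z.2
    have h3 : z ^ 2 = 1 := by
      apply Subtype.ext
      apply Subtype.ext
      apply Subtype.ext
      apply Units.ext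
      have h4 : (((((z ^ 2 : Subgroup.center (Omega F ⇑Q)) : Omega F ⇑Q) : isometryGroup F ⇑Q) :
          Matrix.GeneralLinearGroup ι F) : Matrix ι ι F) =
          (((((z : Subgroup.center (Omega F ⇑Q)) : Omega F ⇑Q) : isometryGroup F ⇑Q) :
          Matrix.GeneralLinearGroup ι F) : Matrix ι ι F) ^ 2 := rfl
      rw [h4]
      rcases h2 with h2 | h2
      · rw [h2, one_pow]; rfl
      · rw [h2, neg_one_sq]; rfl
    have h4 := orderOf_dvd_of_pow_eq_one h3
    rw [hz] at h4
    norm_num at h4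
  refine Hyp.of_subgroup (Omega F ⇑Q) ?_ h1
  intro g k hg
  have h2 : g ^ (7 ^ k + 1) = g := by rw [pow_succ, hg, one_mul]
  obtain ⟨j, hj⟩ : ∃ j, 7 ^ k + 1 = j + j := by
    have : Odd (7 ^ k) := Odd.pow (by decide)
    exact this.add_one
  rw [← h2, hj, pow_add]
  exact mul_self_mem Q hQ h5 _

/-- the natural representation with rows and columns indexed by `Fin n` -/
theorem iso_false_of_lt {F : Type w} [Field F] [Fintype F] {q n : ℕ} (hq : Fintype.card F = q) (h7 : ¬ 7 ∣ q)
    (Q : (ι → F) → F) (hι : Fintype.card ι = n) (hn : n < 7 * orderOf (q : ZMod 7))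
    (h : Hyp (isometryGroup F Q)) : False := by
  refine h.false_of_GL hq h7 hn
    ((glReindex F (Fintype.equivFinOfCardEq hι)).toMonoidHom.comp (isometryGroup F Q).subtype) ?_
    (MonoidHom.id _) Function.surjective_id
  exact (glReindex F (Fintype.equivFinOfCardEq hι)).injective.comp Subtype.val_injective

end Trans

section Sum

variable {F : Type w} [Field F]

/-- the bijection of indices -/
def idx (k l : ℕ) : (Fin k ⊕ Fin k) ⊕ (Fin l ⊕ Fin l) ≃ Fin (k + l) ⊕ Fin (k + l) :=
  (Equiv.sumSumSumComm (Fin k) (Fin k) (Fin l) (Fin l)).trans (Equiv.sumCongr finSumFinEquiv finSumFinEquiv)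

theorem quadFormPlus_add (k l : ℕ) (v : Fin (k + l) ⊕ Fin (k + l) → F) :
    quadFormPlus (k + l) F v = H372.sumQ (quadFormPlus k F) (quadFormPlus l F) (v ∘ idx k l) := by
  unfold quadFormPlus H372.sumQ
  rw [Fin.sum_univ_add]
  rfl

/-- the group of isometries of a sum of two hyperbolic spaces -/
def plusSum (k l : ℕ) (F : Type w) [Field F] :
    isometryGroup F (quadFormPlus k F) × isometryGroup F (quadFormPlus l F) →*
      isometryGroup F (quadFormPlus (k + l) F) :=
  (isometryGroupReindex (idx k l) (H372.sumQ (quadFormPlus k F) (quadFormPlus l F)) (quadFormPlus (k + l) F)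
    (quadFormPlus_add k l)).toMonoidHom.comp (H372.isoSum _ _)

theorem plusSum_injective (k l : ℕ) : Function.Injective (plusSum k l F) :=
  (isometryGroupReindex (idx k l) (H372.sumQ (quadFormPlus k F) (quadFormPlus l F)) (quadFormPlus (k + l) F)
    (quadFormPlus_add k l)).injective.comp (H372.isoSum_injective _ _)

theorem exists_plus_plus {k m : ℕ} (h : 2 * k ≤ m) :
    ∃ f : isometryGroup F (quadFormPlus k F) × isometryGroup F (quadFormPlus k F) →*
      isometryGroup F (quadFormPlus m F), Function.Injective f := by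
  obtain ⟨l, rfl⟩ : ∃ l, m = k + (k + l) := ⟨m - 2 * k, by omega⟩
  refine ⟨(plusSum k (k + l) F).comp (MonoidHom.prodMap (MonoidHom.id _)
    ((plusSum k l F).comp (MonoidHom.inl _ _))), ?_⟩
  have hi : Function.Injective ((plusSum k l F).comp (MonoidHom.inl _ _)) :=
    (plusSum_injective k l).comp (fun a b hab => congrArg Prod.fst hab)
  exact (plusSum_injective k (k + l)).comp (Function.injective_id.prodMap hi)

end Sum

variable {F : Type w} [Field F] [Fintype F] {q : ℕ}

theorem fortynine_dvd_iso (hq : Fintype.card F = q) (h7 : ¬ 7 ∣ q) :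
    49 ∣ Nat.card (isometryGroup F (quadFormPlus (blkC q) F)) := by
  have hb : blkC q = 2 ∨ blkC q = 6 := by
    rcases blkC_cases h7 with ⟨-, h⟩ | ⟨-, h⟩ | ⟨-, h⟩ | ⟨-, h⟩ <;> simp [h]
  have h1 := seven_dvd_blk h7
  have h2 : 7 ∣ ∏ i ∈ Finset.range (blkC q - 1), (q ^ (2 * (i + 1)) - 1) := by
    refine dvd_trans ?_ (Finset.dvd_prod_of_mem _ (Finset.mem_range.2 (show blkC q / 2 - 1 < blkC q - 1 by omega)))
    rwa [show 2 * (blkC q / 2 - 1 + 1) = blkC q by (clear * - hb; omega)]
  rw [S0287.result hq (blkC q) (by omega)]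
  exact mul_dvd_mul (h1.mul_left _) h2

theorem iso_false_of_blocks (hq : Fintype.card F = q) (h7 : ¬ 7 ∣ q) {Y : Type v} [Group Y] [Finite Y] {m : ℕ}
    (hm : 2 * blkC q ≤ m) (f : isometryGroup F (quadFormPlus m F) →* Y) (hf : Function.Injective f)
    (h : Hyp Y) : False := by
  obtain ⟨f1, hf1⟩ := exists_plus_plus (F := F) hm
  refine h.false_of_prod (fortynine_dvd_iso hq h7) (fortynine_dvd_iso hq h7) (f.comp f1) ?_
  intro z _ hz
  have h1 : (f.comp f1) z = (f.comp f1) 1 := hz.trans (map_one _).symm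
  exact (hf.comp hf1) h1

theorem prodB_ne (hq1 : 1 < q) (m : ℕ) : ∏ i ∈ Finset.range m, (q ^ (2 * (i + 1)) - 1) ≠ 0 :=
  Finset.prod_ne_zero_iff.2 (fun i _ => sub_one_ne hq1 (by omega))

theorem fac_prodB_one (h7 : ¬ 7 ∣ q) (hq : 1 < q) (h3 : orderOf (q : ZMod 7) = 1) :
    (∏ i ∈ Finset.range 3, (q ^ (2 * (i + 1)) - 1)).factorization 7 = 3 * val 7 q := by
  rw [fac_prodB h7 hq, h3]
  simp only [Finset.sum_range_succ, fac_seven, _root_.isUnit_iff_eq_one, _root_.IsUnit.dvd, ↓ _root_.reduceIte, _root_.Finset.sum_range_succ, _root_.Finset.range_one, _root_.Finset.sum_singleton, _root_.zero_add, _root_.Nat.factorization_one, _root_.Finsupp.coe_zero, _root_.Pi.zero_apply, _root_.add_zero, _root_.Nat.reduceAdd, _root_.Nat.reduceDvd, _root_.not_false_eq_true, _root_.Cfsg.Agent.H496.Sev.fac_seven]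
  ring

theorem oodd_false (hq : Fintype.card F = q) (h7 : ¬ 7 ∣ q) (hodd : Odd q) {m : ℕ} (hm : 3 ≤ m)
    (h : Hyp (POmega F (quadFormOdd m F))) : False := by
  have hq1 : 1 < q := hq ▸ Fintype.one_lt_card
  have h2 : (2 : F) ≠ 0 := by
    intro h2
    have h3 := (CharP.cast_eq_zero_iff F (ringChar F) 2).1 (by exact_mod_cast h2)
    have h4 : ringChar F = 2 :=
      (Nat.prime_dvd_prime_iff_eq (CharP.char_is_prime F (ringChar F)) Nat.prime_two).1 h3
    have h5 := FiniteField.even_card_of_char_two h4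
    rw [hq] at h5
    exact absurd hodd (by rw [Nat.odd_iff]; omega)
  have hcard : Fintype.card (Unit ⊕ (Fin m ⊕ Fin m)) = 2 * m + 1 := by
    simp only [Fintype.card_sum, Fintype.card_fin, Fintype.card_unit]
    omega
  rw [← coe_quadOdd] at h
  have h' := Hyp.iso_of_POmega _ (quadOdd_nondegenerate h2) (by omega) (quadOdd_isotropic (by omega)) h
  rw [coe_quadOdd] at h'
  by_cases hn : 2 * m + 1 < 7 * orderOf (q : ZMod 7)
  · exact iso_false_of_lt hq h7 _ hcard hn h'
  · have hc := blkC_cases h7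
    by_cases hm2 : 2 * blkC q ≤ m
    · exact iso_false_of_blocks hq h7 hm2 (H372.isoInr (fun v : Unit → F => v () ^ 2) (quadFormPlus m F))
        (H372.isoInr_injective _ _) h'
    · have h3 : (orderOf (q : ZMod 7) = 1 ∧ m = 3) ∨ (orderOf (q : ZMod 7) = 3 ∧ 9 ≤ m ∧ m ≤ 11) := by omega
      refine h'.not_three (val 7 q) ?_
      rw [S0286.result hq hodd, fac_mul (Nat.mul_ne_zero (by omega) (pow_ne_zero _ (by omega))) (prodB_ne hq1 _),
        fac_mul (by omega) (pow_ne_zero _ (by omega)), fac_pow h7, fac_seven (n := 2) (by norm_num)]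
      rcases h3 with ⟨h3, rfl⟩ | ⟨h3, h4, h5⟩
      · rw [fac_prodB_one h7 hq1 h3, zero_add, zero_add]
      · rw [fac_prodB_three h7 hq1 h3 h4 h5, zero_add, zero_add]

theorem oplus_false (hq : Fintype.card F = q) (h7 : ¬ 7 ∣ q) {m : ℕ} (hm : 4 ≤ m)
    (h : Hyp (POmega F (quadFormPlus m F))) : False := by
  have hq1 : 1 < q := hq ▸ Fintype.one_lt_card
  have hcard : Fintype.card (Fin m ⊕ Fin m) = 2 * m := by
    simp only [Fintype.card_sum, Fintype.card_fin]
    omega
  rw [← coe_quadPlus] at h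
  have h' := Hyp.iso_of_POmega _ quadPlus_nondegenerate (by omega) (quadPlus_isotropic (by omega)) h
  rw [coe_quadPlus] at h'
  by_cases hn : 2 * m < 7 * orderOf (q : ZMod 7)
  · exact iso_false_of_lt hq h7 _ hcard hn h'
  · have hc := blkC_cases h7
    by_cases hm2 : 2 * blkC q ≤ m
    · exact iso_false_of_blocks hq h7 hm2 (MonoidHom.id _) Function.injective_id h'
    · have h3 : orderOf (q : ZMod 7) = 3 ∧ m = 11 := by omega
      obtain ⟨h3, rfl⟩ := h3
      refine h'.not_three (val 7 q) ?_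
      rw [S0287.result hq 11 (by norm_num), fac_mul (Nat.mul_ne_zero (Nat.mul_ne_zero (by omega)
        (pow_ne_zero _ (by omega))) (sub_one_ne hq1 (by omega))) (prodB_ne hq1 _),
        fac_mul (Nat.mul_ne_zero (by omega) (pow_ne_zero _ (by omega))) (sub_one_ne hq1 (by omega)),
        fac_mul (by omega) (pow_ne_zero _ (by omega)), fac_pow h7, fac_seven (n := 2) (by norm_num),
        fac_sub_one h7 hq1 (by omega), h3, if_neg (by norm_num), fac_prodB_three h7 hq1 h3 (by norm_num) (by norm_num)]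
      ring

theorem ominus_false (hq : Fintype.card F = q) (h7 : ¬ 7 ∣ q) {m : ℕ} (hm : 4 ≤ m) {a b : F}
    (hab : ∀ z₁ z₂ : F, z₁ ^ 2 + a * z₁ * z₂ + b * z₂ ^ 2 = 0 → z₁ = 0 ∧ z₂ = 0)
    (h : Hyp (POmega F (quadFormMinus (m - 1) F a b))) : False := by
  have hq1 : 1 < q := hq ▸ Fintype.one_lt_card
  have hcard : Fintype.card ((Fin (m - 1) ⊕ Fin (m - 1)) ⊕ Fin 2) = 2 * m := by
    simp only [Fintype.card_sum, Fintype.card_fin]
    omega
  rw [← coe_quadMinus] at h
  have h' := Hyp.iso_of_POmega _ (quadMinus_nondegenerate hab) (by omega) (quadMinus_isotropic (by omega) a b) h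
  rw [coe_quadMinus] at h'
  by_cases hn : 2 * m < 7 * orderOf (q : ZMod 7)
  · exact iso_false_of_lt hq h7 _ hcard hn h'
  · have hc := blkC_cases h7
    by_cases hm2 : 2 * blkC q ≤ m - 1
    · exact iso_false_of_blocks hq h7 hm2 (H372.isoInl (quadFormPlus (m - 1) F)
        (fun z : Fin 2 → F => z 0 ^ 2 + a * z 0 * z 1 + b * z 1 ^ 2)) (H372.isoInl_injective _ _) h'
    · have h3 : (orderOf (q : ZMod 7) = 1 ∧ m = 4) ∨ (orderOf (q : ZMod 7) = 3 ∧ m = 11) ∨
          (orderOf (q : ZMod 7) = 3 ∧ m = 12) := by omega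
      refine h'.not_three (val 7 q) ?_
      rw [S0288.result hq m (by omega) a b hab, fac_mul (Nat.mul_ne_zero (Nat.mul_ne_zero (by omega)
        (pow_ne_zero _ (by omega))) (by omega)) (prodB_ne hq1 _),
        fac_mul (Nat.mul_ne_zero (by omega) (pow_ne_zero _ (by omega))) (by omega),
        fac_mul (by omega) (pow_ne_zero _ (by omega)), fac_pow h7, fac_seven (n := 2) (by norm_num),
        fac_add_one h7 hq1 (by omega)]
      rcases h3 with ⟨h3, rfl⟩ | ⟨h3, rfl⟩ | ⟨h3, rfl⟩
      · rw [h3, if_neg (by norm_num), fac_prodB_one h7 hq1 h3]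
        ring
      · rw [h3, if_neg (by norm_num), fac_prodB_three h7 hq1 h3 (by norm_num) (by norm_num)]
        ring
      · rw [h3, if_neg (by norm_num), fac_prodB_three h7 hq1 h3 (by norm_num) (by norm_num)]
        ring

end Cfsg.Agent.H496.Sev
end

-- part: H496/Sev/Exc
section
/-!
# `Hyp` fails for the exceptional groups of Lie type over a field of order prime to `7` (helper496)
-/

set_option autoImplicit false

namespace Cfsg.Agent.H496.Sev

open Cfsg Cfsg.Lie Matrix Cfsg.Agent.H130.Homo Cfsg.Agent.ChevalleyStructure.Elts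

universe u v w

/-- the types with degrees prime to `7` -/
abbrev Lst : List (ChevalleyDatum × List ℕ) :=
  [(chevG2, [2, 6]), (chevB2, [2, 4]), (chevD4, [2, 4, 4, 6]), (chevF4, [2, 6, 8, 12]),
    (chevE6, [2, 5, 6, 8, 9, 12]), (chevE7, [2, 6, 8, 10, 12, 14, 18]), (chevE8, [2, 8, 12, 14, 18, 20, 24, 30])]

/-- `7`-subgroups of Chevalley groups are commutative if `7` does not divide the order of the Weyl group -/
theorem comm_of_chev {F : Type w} [Field F] [Fintype F] (h7 : ¬ 7 ∣ Fintype.card F)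
    (c : ChevalleyDatum × List ℕ) (hc : c ∈ Lst) (hW : ¬ 7 ∣ c.2.prod) {H : Type v} [Group H] [Finite H]
    (i : H →* ↥(c.1.group F)) (hi : Function.Injective i) (Q : Sylow 7 H) :
    ∀ x ∈ Q, ∀ y ∈ Q, x * y = y * x := by
  classical
  by_cases hG : 7 ∣ Nat.card ↥(c.1.group F)
  · intro x hx y hy
    have hQ : IsPGroup 7 ((Q : Subgroup H).map i) := Q.isPGroup'.map i
    obtain ⟨S, hS⟩ := hQ.exists_le_sylow
    obtain ⟨e⟩ := S2378.result (F := F) rfl c hc 7 h7 hW hG S
    have hx' : i x ∈ S := hS ⟨x, hx, rfl⟩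
    have hy' : i y ∈ S := hS ⟨y, hy, rfl⟩
    have h1 : (⟨i x, hx'⟩ : S) * ⟨i y, hy'⟩ = ⟨i y, hy'⟩ * ⟨i x, hx'⟩ := by
      apply e.injective
      rw [map_mul, map_mul, mul_comm]
    have h2 := congrArg Subtype.val h1
    apply hi
    rw [map_mul, map_mul]
    exact h2
  · have key : ∀ x ∈ Q, x = 1 := by
      intro x hx
      obtain ⟨k, hk⟩ := Q.isPGroup' ⟨x, hx⟩
      apply hi
      rw [map_one]
      refine eq_one_of_coprime (k := k) (n := Nat.card ↥(c.1.group F)) ?_ pow_card_eq_one' hG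
      rw [← map_pow]
      have : x ^ 7 ^ k = 1 := congrArg Subtype.val hk
      rw [this, map_one]
    intro x hx y hy
    rw [key x hx, key y hy]

theorem genSubgroup_le_group {D : ChevalleyDatum} (hD : D ∈ [chevG2, chevB2, chevD4, chevF4, chevE6, chevE7, chevE8])
    {F : Type w} [Field F] (S : Set (List (ℕ × F))) : D.genSubgroup F S ≤ D.group F := by
  unfold ChevalleyDatum.genSubgroup
  rw [Subgroup.closure_le]
  rintro g ⟨l, -, hg⟩
  rw [(eq_wordG_iff hD g l).2 hg]
  exact wordG_mem_group hD l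

theorem Hyp.false_of_chev {G : Type u} [Group G] [Finite G] (h : Hyp G) {F : Type w} [Field F] [Fintype F]
    (h7 : ¬ 7 ∣ Fintype.card F)
    (c : ChevalleyDatum × List ℕ) (hc : c ∈ Lst) (hW : ¬ 7 ∣ c.2.prod)
    (i : G →* ↥(c.1.group F)) (hi : Function.Injective i) : False := by
  obtain ⟨Q⟩ : Nonempty (Sylow 7 G) := inferInstance
  exact h.false_of_comm Q (comm_of_chev h7 c hc hW i hi Q)

section

variable {F : Type w} [Field F] [Fintype F]

theorem g2_false (h7 : ¬ 7 ∣ Fintype.card F) (h : Hyp ↥(chevG2.group F)) : False :=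
  h.false_of_chev h7 (chevG2, [2, 6]) (by simp) (by norm_num) (MonoidHom.id _) Function.injective_id

theorem f4_false (h7 : ¬ 7 ∣ Fintype.card F) (h : Hyp ↥(chevF4.group F)) : False :=
  h.false_of_chev h7 (chevF4, [2, 6, 8, 12]) (by simp) (by norm_num) (MonoidHom.id _) Function.injective_id

theorem e6_false (h7 : ¬ 7 ∣ Fintype.card F) (h : Hyp ↥(chevE6.group F)) : False :=
  h.false_of_chev h7 (chevE6, [2, 5, 6, 8, 9, 12]) (by simp) (by norm_num) (MonoidHom.id _) Function.injective_id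

theorem te6_false (h7 : ¬ 7 ∣ Fintype.card F) {q : ℕ} (h : Hyp ↥(twistedE6 F q)) : False :=
  h.false_of_chev h7 (chevE6, [2, 5, 6, 8, 9, 12]) (by simp) (by norm_num)
    (Subgroup.inclusion (genSubgroup_le_group (by simp) _)) (Subgroup.inclusion_injective _)

theorem td4_false (h7 : ¬ 7 ∣ Fintype.card F) {q : ℕ} (h : Hyp ↥(twistedD4 F q)) : False :=
  h.false_of_chev h7 (chevD4, [2, 4, 4, 6]) (by simp) (by norm_num)
    (Subgroup.inclusion (genSubgroup_le_group (by simp) _)) (Subgroup.inclusion_injective _)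

theorem ree_false (h7 : ¬ 7 ∣ Fintype.card F) {q : ℕ} (h : Hyp ↥(twistedG2 F q)) : False :=
  h.false_of_chev h7 (chevG2, [2, 6]) (by simp) (by norm_num)
    (Subgroup.inclusion (genSubgroup_le_group (by simp) _)) (Subgroup.inclusion_injective _)

theorem tf4_false (h7 : ¬ 7 ∣ Fintype.card F) {q : ℕ} (h : Hyp ↥(twistedF4 F q)) : False :=
  h.false_of_chev h7 (chevF4, [2, 6, 8, 12]) (by simp) (by norm_num)
    (Subgroup.inclusion (genSubgroup_le_group (by simp) _)) (Subgroup.inclusion_injective _)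

theorem sz_false (h7 : ¬ 7 ∣ Fintype.card F) {q : ℕ} (h : Hyp ↥(Lie.Sz F q)) : False := by
  have h1 : 0 < orderOf (Fintype.card F : ZMod 7) := orderOf_pos_zmod h7
  exact h.false_of_GL rfl h7 (n := 4) (by omega) (H := ↥(Lie.Sz F q)) (Lie.Sz F q).subtype (Subgroup.subtype_injective _)
    (MonoidHom.id _) Function.surjective_id

end

/-! ### the groups of type `E_7` and `E_8` -/

section Arith

variable {q : ℕ}

theorem fac_e7 (h7 : ¬ 7 ∣ q) (hq : 1 < q) {X g : ℕ} (hg : ¬ 7 ∣ g) (hX : g * X = q ^ 63 * (q ^ 2 - 1) *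
    (q ^ 6 - 1) * (q ^ 8 - 1) * (q ^ 10 - 1) * (q ^ 12 - 1) * (q ^ 14 - 1) * (q ^ 18 - 1))
    (hv : X.factorization 7 = 5) : False := by
  have n0 : q ^ 63 ≠ 0 := pow_ne_zero _ (by omega)
  have n2 := sub_one_ne hq (k := 2) (by norm_num)
  have n6 := sub_one_ne hq (k := 6) (by norm_num)
  have n8 := sub_one_ne hq (k := 8) (by norm_num)
  have n10 := sub_one_ne hq (k := 10) (by norm_num)
  have n12 := sub_one_ne hq (k := 12) (by norm_num)
  have n14 := sub_one_ne hq (k := 14) (by norm_num)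
  have n18 := sub_one_ne hq (k := 18) (by norm_num)
  have hX0 : X ≠ 0 := by rintro rfl; simp at hv
  have hg0 : g ≠ 0 := by rintro rfl; exact hg (dvd_zero 7)
  have h14 : (14 : ℕ).factorization 7 = 1 := by
    rw [show (14 : ℕ) = 7 * 2 by norm_num, fac_mul (by norm_num) (by norm_num),
      Nat.Prime.factorization_self (by norm_num), fac_seven (by norm_num)]
  have h1 := congrArg (fun n => Nat.factorization n 7) hX
  rw [fac_mul hg0 hX0, fac_mul (by (clear * - hq n2 n6 n8 n10 n12 n14; positivity)) n18, fac_mul (by (clear * - hq n2 n6 n8 n10 n12; positivity)) n14, fac_mul (by (clear * - hq n2 n6 n8 n10; positivity)) n12,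
    fac_mul (by (clear * - hq n2 n6 n8; positivity)) n10, fac_mul (by positivity) n8, fac_mul (by positivity) n6, fac_mul n0 n2,
    fac_pow h7, fac_seven hg, hv, fac_sub_one h7 hq (by norm_num), fac_sub_one h7 hq (by norm_num),
    fac_sub_one h7 hq (by norm_num), fac_sub_one h7 hq (by norm_num), fac_sub_one h7 hq (by norm_num),
    fac_sub_one h7 hq (by norm_num), fac_sub_one h7 hq (by norm_num)] at h1
  rcases ord_cases h7 with h | h | h | h
  all_goals
    rw [h] at h1
    simp only [h14, fac_seven, _root_.zero_add, _root_.isUnit_iff_eq_one, _root_.IsUnit.dvd, ↓ _root_.reduceIte, _root_.Nat.reduceDvd, _root_.not_false_eq_true, _root_.Cfsg.Agent.H496.Sev.fac_seven, _root_.add_zero, _root_.dvd_refl] at h1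
    try omega

theorem fac_e8 (h7 : ¬ 7 ∣ q) (hq : 1 < q) {X : ℕ} (hX : X = q ^ 120 * (q ^ 2 - 1) * (q ^ 8 - 1) * (q ^ 12 - 1) *
    (q ^ 14 - 1) * (q ^ 18 - 1) * (q ^ 20 - 1) * (q ^ 24 - 1) * (q ^ 30 - 1))
    (hv : X.factorization 7 = 5) : False := by
  have n0 : q ^ 120 ≠ 0 := pow_ne_zero _ (by omega)
  have n2 := sub_one_ne hq (k := 2) (by norm_num)
  have n8 := sub_one_ne hq (k := 8) (by norm_num)
  have n12 := sub_one_ne hq (k := 12) (by norm_num)
  have n14 := sub_one_ne hq (k := 14) (by norm_num)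
  have n18 := sub_one_ne hq (k := 18) (by norm_num)
  have n20 := sub_one_ne hq (k := 20) (by norm_num)
  have n24 := sub_one_ne hq (k := 24) (by norm_num)
  have n30 := sub_one_ne hq (k := 30) (by norm_num)
  have h14 : (14 : ℕ).factorization 7 = 1 := by
    rw [show (14 : ℕ) = 7 * 2 by norm_num, fac_mul (by norm_num) (by norm_num),
      Nat.Prime.factorization_self (by norm_num), fac_seven (by norm_num)]
  have h1 := congrArg (fun n => Nat.factorization n 7) hX
  rw [fac_mul (by (clear * - hq n2 n8 n12 n14 n18 n20 n24; positivity)) n30, fac_mul (by (clear * - hq n2 n8 n12 n14 n18 n20; positivity)) n24, fac_mul (by (clear * - hq n2 n8 n12 n14 n18; positivity)) n20, fac_mul (by (clear * - hq n2 n8 n12 n14; positivity)) n18,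
    fac_mul (by (clear * - hq n2 n8 n12; positivity)) n14, fac_mul (by positivity) n12, fac_mul (by positivity) n8, fac_mul n0 n2,
    fac_pow h7, hv, fac_sub_one h7 hq (by norm_num), fac_sub_one h7 hq (by norm_num),
    fac_sub_one h7 hq (by norm_num), fac_sub_one h7 hq (by norm_num), fac_sub_one h7 hq (by norm_num),
    fac_sub_one h7 hq (by norm_num), fac_sub_one h7 hq (by norm_num), fac_sub_one h7 hq (by norm_num)] at h1
  rcases ord_cases h7 with h | h | h | h
  all_goals
    rw [h] at h1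
    simp only [h14, fac_seven, _root_.isUnit_iff_eq_one, _root_.IsUnit.dvd, ↓ _root_.reduceIte, _root_.Nat.reduceDvd, _root_.not_false_eq_true, _root_.Cfsg.Agent.H496.Sev.fac_seven, _root_.add_zero, _root_.zero_add, _root_.dvd_refl] at h1
    try omega

end Arith

end Cfsg.Agent.H496.Sev
end

-- part: H496/Sev/Char7
section
/-!
# `Hyp` fails for the groups of Lie type in characteristic `7` (helper496)
-/

set_option autoImplicit false
set_option linter.unusedSectionVars false

namespace Cfsg.Agent.H496.Sev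

open Cfsg Matrix Cfsg.Agent.H322.Cent Cfsg.Agent.OrdDiv

universe u v w

section Arith

theorem char7 {q N d X R : ℕ} (h7 : 7 ∣ q) (hqp : IsPrimePow q) (hX : d * X = q ^ N * R) (hd : ¬ 7 ∣ d)
    (hR : ¬ 7 ∣ R) (hv : X.factorization 7 = 5) : ∃ k, q = 7 ^ k ∧ N * k = 5 := by
  obtain ⟨p, k, hp, hk, rfl⟩ := (isPrimePow_nat_iff _).1 hqp
  have h1 : 7 = p := (Nat.prime_dvd_prime_iff_eq (by norm_num) hp).1 (fact7.out.dvd_of_dvd_pow h7)
  subst h1
  refine ⟨k, rfl, ?_⟩
  have hX0 : X ≠ 0 := by rintro rfl; simp at hv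
  have hd0 : d ≠ 0 := by rintro rfl; exact hd (dvd_zero 7)
  have hR0 : R ≠ 0 := by rintro rfl; exact hR (dvd_zero 7)
  have h2 := congrArg (fun n => Nat.factorization n 7) hX
  rw [fac_mul hd0 hX0, fac_mul (by positivity) hR0, fac_seven hd, fac_seven hR, hv, ← pow_mul,
    Nat.Prime.factorization_pow (by norm_num), Finsupp.single_eq_same] at h2
  rw [mul_comm]
  omega

theorem char7_false {q N d X R : ℕ} (h7 : 7 ∣ q) (hqp : IsPrimePow q) (hX : d * X = q ^ N * R) (hd : ¬ 7 ∣ d)
    (hR : ¬ 7 ∣ R) (hN : ¬ N ∣ 5) (hv : X.factorization 7 = 5) : False := by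
  obtain ⟨k, -, hk⟩ := char7 h7 hqp hX hd hR hv
  exact hN ⟨k, hk.symm⟩

variable {q : ℕ}

theorem nd_sub (h7 : 7 ∣ q) (hq : 1 ≤ q) {k : ℕ} (hk : 1 ≤ k) : ¬ 7 ∣ q ^ k - 1 := by
  intro h
  have h1 := cop_sub hq hk
  have h2 := Nat.dvd_gcd h h7
  rw [h1] at h2
  norm_num at h2

theorem nd_add (h7 : 7 ∣ q) {k : ℕ} (hk : 1 ≤ k) : ¬ 7 ∣ q ^ k + 1 := by
  intro h
  have h1 := cop_add (q := q) hk
  have h2 := Nat.dvd_gcd h h7
  rw [h1] at h2
  norm_num at h2

theorem nd_mul {a b : ℕ} (ha : ¬ 7 ∣ a) (hb : ¬ 7 ∣ b) : ¬ 7 ∣ a * b := by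
  rw [Nat.Prime.dvd_mul (by norm_num)]
  tauto

theorem nd_prod {s : Finset ℕ} {f : ℕ → ℕ} (h : ∀ i ∈ s, ¬ 7 ∣ f i) : ¬ 7 ∣ ∏ i ∈ s, f i := by
  intro h1
  obtain ⟨i, hi, h2⟩ := (Prime.dvd_finsetProd_iff (Nat.prime_iff.1 fact7.out) f).1 h1
  exact h i hi h2

theorem nd_gcd {a b : ℕ} (hb : ¬ 7 ∣ b) : ¬ 7 ∣ Nat.gcd a b := fun h => hb (h.trans (Nat.gcd_dvd_right _ _))

end Arith

variable {F : Type w} [Field F] [Fintype F]

/-- unipotent elements of `PSL_2(F)` -/
def unip : Multiplicative F →* ProjectiveSpecialLinearGroup (Fin 2) F :=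
  (QuotientGroup.mk' _).comp (MonoidHom.mk' (fun x : Multiplicative F => LieClassical.SLTwoUnipotent.u x.toAdd)
    (fun a b => LieClassical.SLTwoUnipotent.u_add a.toAdd b.toAdd))

theorem unip_injective : Function.Injective (unip (F := F)) := by
  rw [injective_iff_map_eq_one]
  intro a ha
  have h1 : LieClassical.SLTwoUnipotent.u a.toAdd ∈ Subgroup.center (SpecialLinearGroup (Fin 2) F) :=
    (QuotientGroup.eq_one_iff _).1 ha
  obtain ⟨c, hc⟩ := scalar_of_center h1
  have h2 := congrFun (congrFun hc 0) 1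
  have h3 : a.toAdd = (0 : F) := by
    rw [diagonal_apply_ne _ (by decide)] at h2
    exact h2
  exact h3

theorem psl_false7 (h7 : 7 ∣ Fintype.card F) {n : ℕ} (hn : 2 ≤ n)
    (h : Hyp (ProjectiveSpecialLinearGroup (Fin n) F)) : False := by
  classical
  have hqp : IsPrimePow (Fintype.card F) := Fintype.isPrimePow_card_of_field
  have hq1 : 1 < Fintype.card F := Fintype.one_lt_card
  have h1 := S0243.result (F := F) rfl n hn
  have h2 : ∏ i : Fin n, (Fintype.card F ^ n - Fintype.card F ^ (i : ℕ)) =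
      Fintype.card F ^ (n * (n - 1) / 2) * ∏ i ∈ Finset.range n, (Fintype.card F ^ (n - i) - 1) := by
    rw [Fin.prod_univ_eq_prod_range (fun i => Fintype.card F ^ n - Fintype.card F ^ i) n, ← Finset.sum_range_id,
      ← Finset.prod_pow_eq_pow_sum, ← Finset.prod_mul_distrib]
    refine Finset.prod_congr rfl fun i hi => ?_
    have := Finset.mem_range.1 hi
    rw [Nat.mul_sub, mul_one, ← pow_add, show i + (n - i) = n by omega]
  rw [h2, ← mul_assoc] at h1
  have hq : ¬ 7 ∣ Fintype.card F - 1 := by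
    have := nd_sub h7 (by omega) (k := 1) le_rfl
    rwa [pow_one] at this
  obtain ⟨k, hk1, hk2⟩ := char7 h7 hqp h1 (nd_mul (nd_gcd hq) hq)
    (nd_prod fun i hi => nd_sub h7 (by omega) (by have := Finset.mem_range.1 hi; omega)) h.val
  have h3 : n * (n - 1) / 2 ≤ 5 := Nat.le_of_dvd (by norm_num) ⟨k, hk2.symm⟩
  have h4 : n ≤ 3 := by
    by_contra hc
    have h5 : 4 * 3 ≤ n * (n - 1) := Nat.mul_le_mul (by omega) (by omega)
    omega
  interval_cases n
  · norm_num at hk2
    subst hk2
    have h5 := h.small (unip (F := F)).range ?_ ?_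
    · rw [← Nat.card_congr (MonoidHom.ofInjective (unip_injective (F := F))).toEquiv] at h5
      have h6 : Nat.card (Multiplicative F) = 7 ^ 5 := by
        rw [Nat.card_congr Multiplicative.toAdd, Nat.card_eq_fintype_card, hk1]
      rw [h6] at h5
      norm_num at h5
    · constructor
      constructor
      rintro ⟨_, a, rfl⟩ ⟨_, b, rfl⟩
      apply Subtype.ext
      change unip a * unip b = unip b * unip a
      rw [← map_mul, ← map_mul, mul_comm]
    · have h6 : IsPGroup 7 (Multiplicative F) := IsPGroup.of_card (n := 5) (by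
        rw [Nat.card_congr Multiplicative.toAdd, Nat.card_eq_fintype_card, hk1])
      exact h6.of_surjective (unip (F := F)).rangeRestrict (unip (F := F)).rangeRestrict_surjective
  · norm_num at hk2
    omega

theorem psp_false7 (h7 : 7 ∣ Fintype.card F) {m : ℕ} (hm : 2 ≤ m) (h : Hyp (PSp m F)) : False := by
  have hqp : IsPrimePow (Fintype.card F) := Fintype.isPrimePow_card_of_field
  have hq1 : 1 < Fintype.card F := Fintype.one_lt_card
  have h1 := S0245.result (F := F) rfl m
  have h2 := S0246.result (F := F) rfl m (by omega)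
  have h3 := Subgroup.card_eq_card_quotient_mul_card_subgroup (Subgroup.center (Matrix.symplecticGroup (Fin m) F))
  rw [h1, h2] at h3
  have hq : ¬ 7 ∣ Fintype.card F - 1 := by
    have := nd_sub h7 (by omega) (k := 1) le_rfl
    rwa [pow_one] at this
  refine char7_false h7 hqp ((mul_comm _ _).trans h3.symm) (nd_gcd hq) ?_ ?_ h.val
  · exact nd_prod fun i _ => nd_sub h7 (by omega) (by omega)
  · intro h4
    have h5 := Nat.le_of_dvd (by norm_num) h4
    have h6 : m ≤ 2 := by nlinarith only [h5]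
    obtain rfl : m = 2 := by omega
    norm_num at h4

theorem psu_false7 {q : ℕ} (hF : Fintype.card F = q ^ 2) (h7 : 7 ∣ q) {n : ℕ} (hn : 3 ≤ n) (h : Hyp (PSU n F q)) :
    False := by
  have hq2 : IsPrimePow (q ^ 2) := hF ▸ Fintype.isPrimePow_card_of_field
  have hqp : IsPrimePow q := (isPrimePow_pow_iff (by norm_num)).1 hq2
  have hq1 : 1 < q := hqp.one_lt
  have h1 := S0280.result hF n (by omega)
  have hq : ¬ 7 ∣ q + 1 := by
    have := nd_add h7 (k := 1) le_rfl
    rwa [pow_one] at this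
  rw [← mul_assoc] at h1
  refine char7_false h7 hqp h1 (nd_mul (nd_gcd hq) hq) ?_ ?_ h.val
  · refine nd_prod fun i _ => ?_
    split_ifs
    · exact nd_add h7 (by omega)
    · exact nd_sub h7 (by omega) (by omega)
  · intro h4
    have h5 := Nat.le_of_dvd (by norm_num) h4
    have h6 : n ≤ 3 := by
      by_contra hc
      have h7 : 4 * 3 ≤ n * (n - 1) := Nat.mul_le_mul (by omega) (by omega)
      omega
    obtain rfl : n = 3 := by omega
    norm_num at h4

theorem oodd_false7 (h7 : 7 ∣ Fintype.card F) (hodd : Odd (Fintype.card F)) {m : ℕ} (hm : 3 ≤ m)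
    (h : Hyp (POmega F (quadFormOdd m F))) : False := by
  have hqp : IsPrimePow (Fintype.card F) := Fintype.isPrimePow_card_of_field
  have hq1 : 1 < Fintype.card F := Fintype.one_lt_card
  refine char7_false h7 hqp (S0292.result (F := F) rfl hodd m hm) (by norm_num) ?_ ?_ h.val
  · exact nd_prod fun i _ => nd_sub h7 (by omega) (by omega)
  · intro h4
    have h5 := Nat.le_of_dvd (by norm_num) h4
    nlinarith

theorem oplus_false7 (h7 : 7 ∣ Fintype.card F) {m : ℕ} (hm : 4 ≤ m)
    (h : Hyp (POmega F (quadFormPlus m F))) : False := by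
  have hqp : IsPrimePow (Fintype.card F) := Fintype.isPrimePow_card_of_field
  have hq1 : 1 < Fintype.card F := Fintype.one_lt_card
  refine char7_false h7 hqp ((S0293.result (F := F) rfl m hm).trans (mul_assoc _ _ _)) ?_ ?_ ?_ h.val
  · exact nd_gcd (nd_sub h7 (by omega) (by omega))
  · exact nd_mul (nd_sub h7 (by omega) (by omega)) (nd_prod fun i _ => nd_sub h7 (by omega) (by omega))
  · intro h4
    have h5 := Nat.le_of_dvd (by norm_num) h4
    have h6 : 4 * 3 ≤ m * (m - 1) := Nat.mul_le_mul (by omega) (by omega)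
    omega

theorem ominus_false7 (h7 : 7 ∣ Fintype.card F) {m : ℕ} (hm : 4 ≤ m) {a b : F}
    (hab : ∀ z₁ z₂ : F, z₁ ^ 2 + a * z₁ * z₂ + b * z₂ ^ 2 = 0 → z₁ = 0 ∧ z₂ = 0)
    (h : Hyp (POmega F (quadFormMinus (m - 1) F a b))) : False := by
  have hqp : IsPrimePow (Fintype.card F) := Fintype.isPrimePow_card_of_field
  have hq1 : 1 < Fintype.card F := Fintype.one_lt_card
  refine char7_false h7 hqp ((S0294.result (F := F) rfl m hm a b hab).trans (mul_assoc _ _ _)) ?_ ?_ ?_ h.val
  · exact nd_gcd (nd_add h7 (by omega))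
  · exact nd_mul (nd_add h7 (by omega)) (nd_prod fun i _ => nd_sub h7 (by omega) (by omega))
  · intro h4
    have h5 := Nat.le_of_dvd (by norm_num) h4
    have h6 : 4 * 3 ≤ m * (m - 1) := Nat.mul_le_mul (by omega) (by omega)
    omega

/-! ### exceptional groups -/

section Exc

variable {F : Type} [Field F] [Fintype F] (T : OrderTable.{u})

include T

theorem g2_false7 (h7 : 7 ∣ Fintype.card F) (h : Hyp ↥(Lie.chevG2.group F)) : False := by
  have hqp : IsPrimePow (Fintype.card F) := Fintype.isPrimePow_card_of_field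
  have hq1 : 1 < Fintype.card F := Fintype.one_lt_card
  refine char7_false (d := 1) (N := 6) (R := (Fintype.card F ^ 2 - 1) * (Fintype.card F ^ 6 - 1)) h7 hqp
    (by rw [T.g2 F]; ring) (by norm_num) ?_ (by norm_num) h.val
  exact nd_mul (nd_sub h7 (by omega) (by norm_num)) (nd_sub h7 (by omega) (by norm_num))

theorem f4_false7 (h7 : 7 ∣ Fintype.card F) (h : Hyp ↥(Lie.chevF4.group F)) : False := by
  have hqp : IsPrimePow (Fintype.card F) := Fintype.isPrimePow_card_of_field
  have hq1 : 1 < Fintype.card F := Fintype.one_lt_card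
  have key : ∀ k, 1 ≤ k → ¬ 7 ∣ Fintype.card F ^ k - 1 := fun k hk => nd_sub h7 (by omega) hk
  refine char7_false (d := 1) (N := 24) (R := (Fintype.card F ^ 2 - 1) * (Fintype.card F ^ 6 - 1) *
    (Fintype.card F ^ 8 - 1) * (Fintype.card F ^ 12 - 1)) h7 hqp
    (by rw [T.f4 F _ rfl]; ring) (by norm_num) ?_ (by norm_num) h.val
  exact nd_mul (nd_mul (nd_mul (key 2 (by norm_num)) (key 6 (by norm_num))) (key 8 (by norm_num))) (key 12 (by norm_num))

theorem e6_false7 (h7 : 7 ∣ Fintype.card F) (h : Hyp ↥(Lie.chevE6.group F)) : False := by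
  have hqp : IsPrimePow (Fintype.card F) := Fintype.isPrimePow_card_of_field
  have hq1 : 1 < Fintype.card F := Fintype.one_lt_card
  have key : ∀ k, 1 ≤ k → ¬ 7 ∣ Fintype.card F ^ k - 1 := fun k hk => nd_sub h7 (by omega) hk
  refine char7_false (d := Nat.gcd 3 (Fintype.card F - 1)) (N := 36) (R := (Fintype.card F ^ 2 - 1) *
    (Fintype.card F ^ 5 - 1) * (Fintype.card F ^ 6 - 1) * (Fintype.card F ^ 8 - 1) * (Fintype.card F ^ 9 - 1) *
    (Fintype.card F ^ 12 - 1)) h7 hqp (by rw [T.e6 F _ rfl]; ring) (nd_gcd ?_) ?_ (by norm_num) h.val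
  · have := key 1 le_rfl
    rwa [pow_one] at this
  · exact nd_mul (nd_mul (nd_mul (nd_mul (nd_mul (key 2 (by norm_num)) (key 5 (by norm_num))) (key 6 (by norm_num)))
      (key 8 (by norm_num))) (key 9 (by norm_num))) (key 12 (by norm_num))

theorem e7_false7 (h7 : 7 ∣ Fintype.card F) (h : Hyp ↥(Lie.chevE7.group F)) : False := by
  have hqp : IsPrimePow (Fintype.card F) := Fintype.isPrimePow_card_of_field
  have hq1 : 1 < Fintype.card F := Fintype.one_lt_card
  have key : ∀ k, 1 ≤ k → ¬ 7 ∣ Fintype.card F ^ k - 1 := fun k hk => nd_sub h7 (by omega) hk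
  refine char7_false (d := Nat.gcd 2 (Fintype.card F - 1)) (N := 63) (R := (Fintype.card F ^ 2 - 1) *
    (Fintype.card F ^ 6 - 1) * (Fintype.card F ^ 8 - 1) * (Fintype.card F ^ 10 - 1) * (Fintype.card F ^ 12 - 1) *
    (Fintype.card F ^ 14 - 1) * (Fintype.card F ^ 18 - 1)) h7 hqp
    (by rw [T.e7 F _ rfl]; ring) (nd_gcd ?_) ?_ (by norm_num) h.val
  · have := key 1 le_rfl
    rwa [pow_one] at this
  · exact nd_mul (nd_mul (nd_mul (nd_mul (nd_mul (nd_mul (key 2 (by norm_num)) (key 6 (by norm_num)))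
      (key 8 (by norm_num))) (key 10 (by norm_num))) (key 12 (by norm_num))) (key 14 (by norm_num)))
      (key 18 (by norm_num))

theorem e8_false7 (h7 : 7 ∣ Fintype.card F) (h : Hyp ↥(Lie.chevE8.group F)) : False := by
  have hqp : IsPrimePow (Fintype.card F) := Fintype.isPrimePow_card_of_field
  have hq1 : 1 < Fintype.card F := Fintype.one_lt_card
  have key : ∀ k, 1 ≤ k → ¬ 7 ∣ Fintype.card F ^ k - 1 := fun k hk => nd_sub h7 (by omega) hk
  refine char7_false (d := 1) (N := 120) (R := (Fintype.card F ^ 2 - 1) *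
    (Fintype.card F ^ 8 - 1) * (Fintype.card F ^ 12 - 1) * (Fintype.card F ^ 14 - 1) * (Fintype.card F ^ 18 - 1) *
    (Fintype.card F ^ 20 - 1) * (Fintype.card F ^ 24 - 1) * (Fintype.card F ^ 30 - 1)) h7 hqp
    (by rw [T.e8 F _ rfl]; ring) (by norm_num) ?_ (by norm_num) h.val
  exact nd_mul (nd_mul (nd_mul (nd_mul (nd_mul (nd_mul (nd_mul (key 2 (by norm_num)) (key 8 (by norm_num)))
      (key 12 (by norm_num))) (key 14 (by norm_num))) (key 18 (by norm_num))) (key 20 (by norm_num)))
      (key 24 (by norm_num))) (key 30 (by norm_num))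

theorem te6_false7 {q : ℕ} (hqp : IsPrimePow q) (hF : Fintype.card F = q ^ 2) (h7 : 7 ∣ q)
    (h : Hyp ↥(Lie.twistedE6 F q)) : False := by
  have hq1 : 1 < q := hqp.one_lt
  have key : ∀ k, 1 ≤ k → ¬ 7 ∣ q ^ k - 1 := fun k hk => nd_sub h7 (by omega) hk
  have key' : ∀ k, 1 ≤ k → ¬ 7 ∣ q ^ k + 1 := fun k hk => nd_add h7 hk
  refine char7_false (d := Nat.gcd 3 (q + 1)) (N := 36) (R := (q ^ 2 - 1) * (q ^ 5 + 1) * (q ^ 6 - 1) * (q ^ 8 - 1) *
    (q ^ 9 + 1) * (q ^ 12 - 1)) h7 hqp (by rw [T.te6 F q hqp hF]; ring) (nd_gcd ?_) ?_ (by norm_num) h.val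
  · have := key' 1 le_rfl
    rwa [pow_one] at this
  · exact nd_mul (nd_mul (nd_mul (nd_mul (nd_mul (key 2 (by norm_num)) (key' 5 (by norm_num))) (key 6 (by norm_num)))
      (key 8 (by norm_num))) (key' 9 (by norm_num))) (key 12 (by norm_num))

theorem td4_false7 {q : ℕ} (hqp : IsPrimePow q) (hF : Fintype.card F = q ^ 3) (h7 : 7 ∣ q)
    (h : Hyp ↥(Lie.twistedD4 F q)) : False := by
  have hq1 : 1 < q := hqp.one_lt
  have key : ∀ k, 1 ≤ k → ¬ 7 ∣ q ^ k - 1 := fun k hk => nd_sub h7 (by omega) hk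
  refine char7_false (d := 1) (N := 12) (R := (q ^ 2 - 1) * (q ^ 6 - 1) * (q ^ 8 + q ^ 4 + 1)) h7 hqp
    (by rw [T.td4 F q hqp hF]; ring) (by norm_num) ?_ (by norm_num) h.val
  refine nd_mul (nd_mul (key 2 (by norm_num)) (key 6 (by norm_num))) ?_
  intro h8
  have h9 : 7 ∣ q ^ 8 + q ^ 4 := Dvd.dvd.add (dvd_pow h7 (by norm_num)) (dvd_pow h7 (by norm_num))
  omega

end Exc

end Cfsg.Agent.H496.Sev
end

-- part: H496/Sev/Main
section
/-!
# No known simple group has Sylow `7`-subgroups of order `7 ^ 5`, exponent `7` and rank at most three (helper496)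

* `Hyp.false_of_known` : no known simple group satisfies `Hyp` (Sylow `7`-subgroups of order `7 ^ 5`, abelian
  `7`-subgroups of order at most `7 ^ 3`); `T` is the table of orders (`OrdDiv.Table`).
-/

set_option autoImplicit false
set_option linter.style.haveILetI false

namespace Cfsg.Agent.H496.Sev

open Cfsg Matrix Cfsg.Agent.OrdDiv

universe u v w

section Alt

open Equiv Equiv.Perm

variable {α β : Type} [Fintype α] [DecidableEq α] [Fintype β] [DecidableEq β]

/-- even permutations of a disjoint union -/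
def altSum (α β : Type) [Fintype α] [DecidableEq α] [Fintype β] [DecidableEq β] :
    alternatingGroup α × alternatingGroup β →* alternatingGroup (α ⊕ β) :=
  ((sumCongrHom α β).comp ((alternatingGroup α).subtype.prodMap (alternatingGroup β).subtype)).codRestrict
    (alternatingGroup (α ⊕ β)) (fun x => by
      rw [mem_alternatingGroup]
      change sign (Equiv.Perm.sumCongr x.1.1 x.2.1) = 1
      rw [sign_sumCongr, mem_alternatingGroup.1 x.1.2, mem_alternatingGroup.1 x.2.2, one_mul])

theorem altSum_injective : Function.Injective (altSum α β) := by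
  rintro ⟨a, b⟩ ⟨c, d⟩ h
  have h1 : sumCongrHom α β (a.1, b.1) = sumCongrHom α β (c.1, d.1) := congrArg Subtype.val h
  have h2 := sumCongrHom_injective h1
  exact Prod.ext (Subtype.ext (congrArg Prod.fst h2)) (Subtype.ext (congrArg Prod.snd h2))

theorem exists_alt_alt {n : ℕ} (hn : 28 ≤ n) :
    ∃ f : alternatingGroup (Fin 14) × alternatingGroup (Fin 14) →* alternatingGroup (Fin n), Function.Injective f := by
  obtain ⟨l, rfl⟩ : ∃ l, n = 14 + (14 + l) := ⟨n - 28, by omega⟩
  let e1 : Fin 14 ⊕ Fin l ≃ Fin (14 + l) := finSumFinEquiv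
  let e2 : Fin 14 ⊕ Fin (14 + l) ≃ Fin (14 + (14 + l)) := finSumFinEquiv
  refine ⟨(altCongrHom e2).toMonoidHom.comp ((altSum (Fin 14) (Fin (14 + l))).comp
    (MonoidHom.prodMap (MonoidHom.id _) ((altCongrHom e1).toMonoidHom.comp
      ((altSum (Fin 14) (Fin l)).comp (MonoidHom.inl _ _))))), ?_⟩
  have hi : Function.Injective ((altCongrHom e1).toMonoidHom.comp
      ((altSum (Fin 14) (Fin l)).comp (MonoidHom.inl _ _))) :=
    (altCongrHom e1).injective.comp (altSum_injective.comp (fun a b hab => congrArg Prod.fst hab))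
  exact (altCongrHom e2).injective.comp (altSum_injective.comp (Function.injective_id.prodMap hi))

theorem fortynine_dvd_alt : 49 ∣ Nat.card (alternatingGroup (Fin 14)) := by
  have h1 := two_mul_nat_card_alternatingGroup (α := Fin 14)
  rw [Nat.card_perm, Nat.card_fin] at h1
  have h2 : (14 : ℕ).factorial = 2 * (49 * 889574400) := by decide +kernel
  rw [h2] at h1
  exact ⟨_, Nat.eq_of_mul_eq_mul_left (by norm_num) h1⟩

theorem alt_false {n : ℕ} (hn : 5 ≤ n) (h : Hyp (alternatingGroup (Fin n))) : False := by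
  by_cases h28 : 28 ≤ n
  · obtain ⟨f, hf⟩ := exists_alt_alt h28
    refine h.false_of_prod fortynine_dvd_alt fortynine_dvd_alt f ?_
    intro z _ hz
    exact hf (hz.trans (map_one f).symm)
  · haveI : Nontrivial (Fin n) := Fin.nontrivial_iff_two_le.2 (by omega)
    have h1 := two_mul_nat_card_alternatingGroup (α := Fin n)
    rw [Nat.card_perm, Nat.card_fin] at h1
    have h2 : 7 ^ 5 ∣ Nat.card (alternatingGroup (Fin n)) :=
      (Nat.Prime.pow_dvd_iff_le_factorization (by norm_num) Nat.card_pos.ne').2 (by rw [h.val])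
    have h3 : 7 ^ 5 ∣ n.factorial := by
      rw [← h1]
      exact h2.mul_left 2
    have h4 : 7 ^ 5 ∣ (27 : ℕ).factorial := h3.trans (Nat.factorial_dvd_factorial (by omega))
    exact absurd h4 (by decide +kernel)

end Alt

theorem spor_ne : ∀ x ∈ spor, 7 ^ 5 ∣ x.2 → 7 ^ 6 ∣ x.2 := by
  have h : spor.all (fun x => Nat.beq (x.2 % 7 ^ 5) 0 == false || Nat.beq (x.2 % 7 ^ 6) 0) = true := by decide +kernel
  intro x hx h5
  have h1 := List.all_eq_true.1 h x hx
  have h2 : Nat.beq (x.2 % 7 ^ 5) 0 = true := by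
    rw [Nat.beq_eq, Nat.mod_eq_zero_of_dvd h5]
  rw [h2] at h1
  have h3 : Nat.beq (x.2 % 7 ^ 6) 0 = true := by simpa using h1
  rw [Nat.beq_eq] at h3
  exact Nat.dvd_of_mod_eq_zero h3

theorem Hyp.false_of_known (T : OrderTable.{u}) {S : Type u} [Group S] [Finite S] (h : IsKnownSimple' S)
    (hS : Hyp S) : False := by
  have key : ∀ (g : Grp), g ∈ spor.map (fun x => x.1) → Real g S → False := fun g hg hr => by
    obtain ⟨x, hx, rfl⟩ := List.mem_map.1 hg
    have h1 := T.spor S x hx hr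
    have h2 : 7 ^ 5 ∣ x.2 := by
      rw [← h1]
      exact (Nat.Prime.pow_dvd_iff_le_factorization (by norm_num) Nat.card_pos.ne').2 (by rw [hS.val])
    have h3 := spor_ne x hx h2
    rw [← h1] at h3
    have h4 := (Nat.Prime.pow_dvd_iff_le_factorization (by norm_num) Nat.card_pos.ne').1 h3
    rw [hS.val] at h4
    omega
  rcases h with h | h | h | h | h | h | h | h | h | h
  · haveI : Fact (Nat.card S).Prime := ⟨h⟩
    haveI : IsCyclic S := isCyclic_of_prime_card (p := Nat.card S) rfl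
    obtain ⟨P⟩ : Nonempty (Sylow 7 S) := inferInstance
    exact hS.false_of_comm P (fun x _ y _ => (IsCyclic.isMulCommutative (α := S)).is_comm.comm x y)
  · obtain ⟨n, hn, ⟨e⟩⟩ := h
    exact alt_false hn (hS.congr e)
  · obtain ⟨F, _, _, n, hn, hn2, ⟨e⟩⟩ := h
    have h' := hS.congr e
    by_cases h7 : 7 ∣ Fintype.card F
    · exact psl_false7 h7 hn h'
    · exact psl_false rfl h7 h'
  · obtain ⟨F, _, _, n, hn, hn2, ⟨e⟩⟩ := h
    have h' := hS.congr e
    by_cases h7 : 7 ∣ Fintype.card F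
    · exact psp_false7 h7 hn h'
    · exact psp_false rfl h7 hn h'
  · obtain ⟨F, _, _, n, q, hF, hn, hn2, ⟨e⟩⟩ := h
    have h' := hS.congr e
    by_cases h7 : 7 ∣ q
    · exact psu_false7 hF h7 hn h'
    · exact psu_false hF h7 hn h'
  · obtain ⟨F, _, _, n, hn, ho, ⟨e⟩⟩ := h
    have h' := hS.congr e
    by_cases h7 : 7 ∣ Fintype.card F
    · exact oodd_false7 h7 ho hn h'
    · exact oodd_false rfl h7 ho hn h'
  · obtain ⟨F, _, _, n, hn, ⟨e⟩⟩ := h
    have h' := hS.congr e
    by_cases h7 : 7 ∣ Fintype.card F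
    · exact oplus_false7 h7 hn h'
    · exact oplus_false rfl h7 hn h'
  · obtain ⟨F, _, _, n, a, b, hn, hab, ⟨e⟩⟩ := h
    have h' := hS.congr e
    by_cases h7 : 7 ∣ Fintype.card F
    · exact ominus_false7 h7 hn hab h'
    · exact ominus_false rfl h7 hn hab h'
  · rcases h with h | h | h | h | h | h | h | h | h | h | h
    · obtain ⟨F, _, _, hq, ⟨e⟩⟩ := h
      have h' := hS.congr e
      by_cases h7 : 7 ∣ Fintype.card F
      · exact g2_false7 T h7 h'
      · exact g2_false h7 h'
    · obtain ⟨F, _, _, ⟨e⟩⟩ := h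
      have h' := hS.congr e
      by_cases h7 : 7 ∣ Fintype.card F
      · exact f4_false7 T h7 h'
      · exact f4_false h7 h'
    · obtain ⟨F, _, _, ⟨e⟩⟩ := h
      have h' := hS.congr e
      by_cases h7 : 7 ∣ Fintype.card F
      · exact e6_false7 T h7 h'
      · exact e6_false h7 h'
    · obtain ⟨F, _, _, ⟨e⟩⟩ := h
      have h' := hS.congr e
      by_cases h7 : 7 ∣ Fintype.card F
      · exact e7_false7 T h7 h'
      · refine fac_e7 h7 Fintype.one_lt_card ?_ (T.e7 F _ rfl) h'.val
        intro h1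
        have h2 := Nat.le_of_dvd (by norm_num) (h1.trans (Nat.gcd_dvd_left 2 (Fintype.card F - 1)))
        omega
    · obtain ⟨F, _, _, ⟨e⟩⟩ := h
      have h' := hS.congr e
      by_cases h7 : 7 ∣ Fintype.card F
      · exact e8_false7 T h7 h'
      · exact fac_e8 h7 Fintype.one_lt_card (T.e8 F _ rfl) h'.val
    · obtain ⟨F, _, _, q, hq, hF, ⟨e⟩⟩ := h
      have h' := hS.congr e
      by_cases h7 : 7 ∣ q
      · exact te6_false7 T hq hF h7 h'
      · exact te6_false (fun h8 => h7 (by rw [hF] at h8; exact fact7.out.dvd_of_dvd_pow h8)) h'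
    · obtain ⟨F, _, _, q, hq, hF, ⟨e⟩⟩ := h
      have h' := hS.congr e
      by_cases h7 : 7 ∣ q
      · exact td4_false7 T hq hF h7 h'
      · exact td4_false (fun h8 => h7 (by rw [hF] at h8; exact fact7.out.dvd_of_dvd_pow h8)) h'
    · obtain ⟨F, _, _, m, hm, hF, ⟨e⟩⟩ := h
      have h7 : ¬ 7 ∣ Fintype.card F := fun h8 => by
        rw [hF] at h8
        have := fact7.out.dvd_of_dvd_pow h8
        norm_num at this
      exact sz_false h7 (hS.congr e)
    · obtain ⟨F, _, _, m, hm, hF, ⟨e⟩⟩ := h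
      have h7 : ¬ 7 ∣ Fintype.card F := fun h8 => by
        rw [hF] at h8
        have := fact7.out.dvd_of_dvd_pow h8
        norm_num at this
      exact ree_false h7 (hS.congr e)
    · obtain ⟨F, _, _, m, hm, hF, ⟨e⟩⟩ := h
      have h7 : ¬ 7 ∣ Fintype.card F := fun h8 => by
        rw [hF] at h8
        have := fact7.out.dvd_of_dvd_pow h8
        norm_num at this
      exact tf4_false h7 (hS.congr e)
    · exact key .tits (by decide) h
  · rcases h with h | h | h | h | h | h | h | h | h | h | h | h | h | h | h | h | h | h | h | h | h | h | h | h | h | h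
    · exact key .m11 (by decide) h
    · exact key .m12 (by decide) h
    · exact key .m22 (by decide) h
    · exact key .m23 (by decide) h
    · exact key .m24 (by decide) h
    · exact key .j1 (by decide) h
    · exact key .j2 (by decide) h
    · exact key .j3 (by decide) h
    · exact key .j4 (by decide) h
    · exact key .co1 (by decide) h
    · exact key .co2 (by decide) h
    · exact key .co3 (by decide) h
    · exact key .mcl (by decide) h
    · exact key .hs (by decide) h
    · exact key .suz (by decide) h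
    · exact key .he (by decide) h
    · exact key .ru (by decide) h
    · exact key .on (by decide) h
    · exact key .ly (by decide) h
    · exact key .fi22 (by decide) h
    · exact key .fi23 (by decide) h
    · exact key .fi24 (by decide) h
    · exact key .hn (by decide) h
    · exact key .th (by decide) h
    · exact key .b (by decide) h
    · exact key .m (by decide) h

end Cfsg.Agent.H496.Sev
end

-- part: H496/Sev/Known
section
/-!
# No known simple group has Sylow `7`-subgroups of order `7 ^ 5`, exponent `7` and rank at most three (helper496)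

`no_simple_seven` : the table-free statement.
-/

set_option autoImplicit false

namespace Cfsg.Agent.H496.Sev

open Cfsg

universe u

/-- no known simple group has Sylow `7`-subgroups of order `7 ^ 5` with abelian `7`-subgroups of order at most
`7 ^ 3` -/
theorem Hyp.false_of_isKnown {G : Type u} [Group G] [Finite G] (hK : IsKnownSimple' G) (h : Hyp G) : False :=
  Hyp.false_of_known OrdDiv.table hK h

end Cfsg.Agent.H496.Sev
end

-- part: H766/PearlFinal
section
/-!
# Sectional rank three with a pearl (helper766): the assembly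
-/

set_option autoImplicit false

namespace Cfsg.Agent.H766

open Cfsg Cfsg.FusionSystem Cfsg.Agent.H802
open Cfsg.Agent.H467.MaxClass
open Cfsg.Agent.TwoFusion.SectionalRank
open Matrix (SpecialLinearGroup)
open scoped commutatorElement

universe u

section groups

variable {G : Type u} [Group G] {p : ℕ}

theorem card_sup_closure_le [Finite G] (hp : 0 < p) {X Y : Subgroup G} (h : ElemSection p X Y)
    (T : Finset G) : (∀ t ∈ T, t ∈ X) →
    Nat.card (Y ⊔ Subgroup.closure (T : Set G) : Subgroup G) ≤ p ^ T.card * Nat.card Y := by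
  classical
  induction T using Finset.induction_on with
  | empty =>
    intro _
    simp only [_root_.Finset.coe_empty, _root_.Subgroup.closure_empty, _root_.bot_le, _root_.sup_of_le_left, _root_.Finset.card_empty, _root_.pow_zero, _root_.one_mul, _root_.Std.le_refl]
  | insert t T ht ih =>
    intro hT
    have h1 := ih fun u hu => hT u (Finset.mem_insert_of_mem hu)
    have htX := hT t (Finset.mem_insert_self _ _)
    set K := Y ⊔ Subgroup.closure (T : Set G) with hK
    have hYK : Y ≤ K := le_sup_left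
    have hKX : K ≤ X := by
      rw [hK, sup_le_iff, Subgroup.closure_le]
      exact ⟨h.le, fun u hu => hT u (Finset.mem_insert_of_mem hu)⟩
    have h2 := card_sup_zpowers_le K t (fun k hk => by
      have h3 := hYK (h.comm t htX k (hKX hk))
      have h4 := K.mul_mem h3 hk
      rwa [inv_mul_cancel_right] at h4) hp (hYK (h.pow t htX))
    have h5 : Y ⊔ Subgroup.closure ((insert t T : Finset G) : Set G) = K ⊔ Subgroup.zpowers t := by
      rw [Finset.coe_insert, Set.insert_eq, Subgroup.closure_union, ← Subgroup.zpowers_eq_closure,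
        hK, sup_assoc, sup_comm (Subgroup.zpowers t)]
    rw [h5, Finset.card_insert_of_notMem ht, pow_succ]
    calc Nat.card (K ⊔ Subgroup.zpowers t : Subgroup G) ≤ p * Nat.card K := h2
      _ ≤ p * (p ^ T.card * Nat.card Y) := Nat.mul_le_mul_left _ h1
      _ = p ^ T.card * p * Nat.card Y := by ring

/-- Two-generated subgroups give sectional rank at most two. -/
theorem sectionalPRankLE_of_generated [Finite G] (hp : 0 < p)
    (hgen : ∀ H : Subgroup G, ∃ T : Finset G, T.card ≤ 2 ∧ Subgroup.closure (T : Set G) = H) :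
    Cfsg.SectionalPRankLE p 2 G := by
  rw [sectionalPRankLE_iff]
  intro X Y hXY
  obtain ⟨T, hT, hTX⟩ := hgen X
  have h1 := card_sup_closure_le hp hXY T (fun t ht => by
    rw [← hTX]
    exact Subgroup.subset_closure ht)
  rw [hTX, sup_eq_right.2 hXY.le] at h1
  exact h1.trans (Nat.mul_le_mul_right _ (Nat.pow_le_pow_right hp hT))

/-- A group of order `p ^ n`, maximal class, with a section of rank three has `n ≥ 4`. -/
theorem four_le_of_rank [Finite G] [hp : Fact p.Prime] {n : ℕ} (hn : 2 ≤ n)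
    (hcard : Nat.card G = p ^ n) (hcl : Group.nilpotencyClass G = n - 1)
    (hr : ¬ Cfsg.SectionalPRankLE p 2 G) : 4 ≤ n := by
  by_contra hcon
  have hn3 : n = 2 ∨ n = 3 := by omega
  rcases hn3 with rfl | rfl
  · exact hr (sectionalPRankLE_of_card_le hcard.le)
  · have hr' := hr
    rw [sectionalPRankLE_iff] at hr'
    push Not at hr'
    obtain ⟨X, Y, hXY, hlt⟩ := hr'
    have hXd : Nat.card X ∣ p ^ 3 := by rw [← hcard]; exact Subgroup.card_subgroup_dvd_card X
    have hYd : Nat.card Y ∣ p ^ 3 := by rw [← hcard]; exact Subgroup.card_subgroup_dvd_card Y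
    obtain ⟨i, hi, hXi⟩ := (Nat.dvd_prime_pow hp.out).1 hXd
    obtain ⟨j, hj, hYj⟩ := (Nat.dvd_prime_pow hp.out).1 hYd
    rw [hXi, hYj, ← pow_add] at hlt
    have hij := (Nat.pow_lt_pow_iff_right hp.out.one_lt).1 hlt
    have hXtop : X = ⊤ := Subgroup.eq_top_of_card_eq X (by rw [hXi, hcard]; congr 1; omega)
    have hY : Y = ⊥ := by
      rw [Subgroup.eq_bot_iff_card, hYj, show j = 0 by omega, pow_zero]
    have hPG : IsPGroup p G := IsPGroup.of_card hcard
    have hnil : Group.IsNilpotent G := hPG.isNilpotent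
    have h1 : (⊤ : Subgroup G).lowerCentralSeries 1 = ⊥ := by
      rw [Subgroup.top_lowerCentralSeries_one, _root_.commutator_def, eq_bot_iff,
        Subgroup.commutator_le]
      intro a _ b _
      have h2 := hXY.comm a (by rw [hXtop]; trivial) b (by rw [hXtop]; trivial)
      rw [hY] at h2
      exact h2
    rw [Subgroup.lowerCentralSeries_eq_bot_iff_nilpotencyClass_le, hcl] at h1
    omega

/-- Abelian subgroups of the group of order `p ^ 5` have order at most `p ^ 3`. -/
theorem small_abelian [Finite G] [hp : Fact p.Prime] (h : MC G p 5 (chain G))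
    (hne : ∃ a ∈ chain G 1, ∃ b ∈ chain G 2, ⁅a, b⁆ ∉ chain G 5) {X : Subgroup G}
    (hX : ∀ a ∈ X, ∀ b ∈ X, a * b = b * a) : Nat.card X ≤ p ^ 3 := by
  have hcardG : Nat.card G = p ^ 5 := h.card_group
  have hXd : Nat.card X ∣ p ^ 5 := by rw [← hcardG]; exact Subgroup.card_subgroup_dvd_card X
  obtain ⟨i, hi, hXi⟩ := (Nat.dvd_prime_pow hp.out).1 hXd
  rw [hXi]
  by_contra hcon
  have hi3 : 3 < i := by
    by_contra h3
    exact hcon (Nat.pow_le_pow_right hp.out.pos (by omega))
  obtain ⟨a, ha, b, hb, hab⟩ := hne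
  have habX : ∀ a ∈ chain G 1, ∀ b ∈ chain G 2, a ∈ X → b ∈ X → ⁅a, b⁆ ∈ chain G 5 := by
    intro a _ b _ haX hbX
    rw [commutatorElement_eq_one_iff_mul_comm.2 (hX a haX b hbX)]
    exact one_mem _
  have hi45 : i = 4 ∨ i = 5 := by omega
  rcases hi45 with rfl | rfl
  · have hXidx : X.index = p := by
      have h1 := X.card_mul_index
      rw [hXi, hcardG] at h1
      exact Nat.eq_of_mul_eq_mul_left (pow_pos hp.out.pos 4) (by rw [h1]; ring)
    have hPG : IsPGroup p G := IsPGroup.of_card hcardG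
    have hXn : X.Normal := by
      have hnil : Group.IsNilpotent G := hPG.isNilpotent
      have hlt : X < ⊤ := lt_top_iff_ne_top.2 (fun hh => by
        rw [hh, Subgroup.index_top] at hXidx
        exact hp.out.one_lt.ne hXidx)
      have hnc := Group.normalizerCondition_of_isNilpotent (G := G)
      have h1 := hnc X hlt
      have h2 := Subgroup.relIndex_mul_index (h1.le)
      rw [hXidx] at h2
      have h3 : (Subgroup.normalizer (X : Set G)).index ∣ p := ⟨_, by rw [← h2, mul_comm]⟩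
      rcases (Nat.dvd_prime hp.out).1 h3 with h4 | h4
      · exact Subgroup.normalizer_eq_top_iff.1 (Subgroup.index_eq_one.1 h4)
      · exfalso
        rw [h4] at h2
        have h5 := Nat.eq_of_mul_eq_mul_right hp.out.pos (by rw [h2, one_mul] :
          X.relIndex (Subgroup.normalizer (X : Set G)) * p = 1 * p)
        exact h1.not_ge (Subgroup.relIndex_eq_one.1 h5)
    have hW2X : chain G 2 ≤ X := by
      have hcard : Nat.card (G ⧸ X) = p := hXidx
      have : IsCyclic (G ⧸ X) := isCyclic_of_prime_card hcard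
      rw [← h.comm_top, Subgroup.commutator_le]
      intro a _ b _
      rw [← QuotientGroup.eq_one_iff (N := X)]
      have hcm : ∀ u v : G ⧸ X, u * v = v * u := by
        intro u v
        obtain ⟨g, hg⟩ := IsCyclic.exists_generator (α := G ⧸ X)
        obtain ⟨k, rfl⟩ := hg u
        obtain ⟨l, rfl⟩ := hg v
        exact ((Commute.refl g).zpow_zpow k l).eq
      rw [commutatorElement_def, QuotientGroup.mk_mul, QuotientGroup.mk_mul, QuotientGroup.mk_mul,
        hcm (a : G ⧸ X) b, QuotientGroup.mk_inv, QuotientGroup.mk_inv]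
      group
    have hXK : X ≤ h.Ksub 2 := by
      intro x hx
      rw [h.mem_Ksub]
      intro w hw
      rw [commutatorElement_eq_one_iff_mul_comm.2 (hX w (hW2X hw) x hx)]
      exact one_mem _
    have hK : h.Ksub 2 = chain G 1 := by
      apply h.eq_W1
      · intro y hy w hw
        exact h.two (Subgroup.commutator_mem_commutator hw hy)
      · exact h.Ksub_ne_top le_rfl (by omega)
    rw [hK] at hXK
    have hW1 : Nat.card (chain G 1) = p ^ 4 := h.card_W 4 (by omega)
    have hXW : X = chain G 1 := Subgroup.eq_of_le_of_card_ge hXK (by rw [hW1, hXi])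
    exact hab (habX a ha b hb (by rw [hXW]; exact ha) (hW2X hb))
  · have hXtop : X = ⊤ := Subgroup.eq_top_of_card_eq X (by rw [hXi, hcardG])
    exact hab (habX a ha b hb (by rw [hXtop]; trivial) (by rw [hXtop]; trivial))

end groups

variable {Ω : Type u} [Group Ω] {S : Subgroup Ω}

/-- The non-realizability input. -/
def NoSimple : Prop := ∀ (G : Type u) [Group G] [Finite G] [IsSimpleGroup G],
  (Nat.card G).factorization 7 = 5 →
  (∀ A : Subgroup G, IsMulCommutative A → IsPGroup 7 A → Nat.card A ≤ 7 ^ 3) → False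

/-- **Exoticness.** -/
theorem Setup.isExotic [hp : Fact (Nat.Prime 7)] [Finite S] {F : FusionSystem S} {E : Subgroup Ω} {x y : E}
    {e : (E ⧸ frattini E) ≃* Multiplicative (Fin 2 → ZMod 7)} (s : Setup F E x y e)
    (hno : NoSimple.{u}) : F.IsExotic 7 := by
  refine ⟨s.hF, fun hreal => ?_⟩
  obtain ⟨G, hG, hfin, hsimp, ι, hι, T, hT⟩ := Cfsg.Agent.S5343.result 7 s.hS F s.isSimple hreal
  have hιinj := hι.1
  have hTcard : Nat.card T = 7 ^ 5 := by
    rw [← s.hcard]
    have h1 : Nat.card T = Nat.card ι.range := by rw [← hT]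
    rw [h1]
    exact (Nat.card_congr (MonoidHom.ofInjective hιinj).toEquiv).symm
  refine hno G ?_ ?_
  · have h := T.card_eq_multiplicity
    rw [hTcard] at h
    exact (Nat.pow_right_injective (le_refl 2 |>.trans (by norm_num)) h).symm
  · intro A hA hAp
    obtain ⟨Q, hQ⟩ := hAp.exists_le_sylow
    obtain ⟨g, hg⟩ := MulAction.exists_smul_eq G Q T
    -- move `A` into `T`
    set A' : Subgroup G := A.map (MulAut.conj g).toMonoidHom with hA'
    have hA'T : A' ≤ ι.range := by
      rw [← hT, ← hg]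
      rintro _ ⟨a, ha, rfl⟩
      exact Subgroup.smul_mem_pointwise_smul _ (MulAut.conj g) (Q : Subgroup G) (hQ ha)
    have hcA : Nat.card A' = Nat.card A :=
      Nat.card_congr (A.equivMapOfInjective _ (MulAut.conj g).injective).symm.toEquiv
    have hcB : Nat.card (A'.comap ι) = Nat.card A' := by
      have h1 : (A'.comap ι).map ι = A' := by
        rw [Subgroup.map_comap_eq, inf_eq_right.2 hA'T]
      rw [← h1, Subgroup.comap_map_eq_self_of_injective hιinj]
      exact Nat.card_congr ((A'.comap ι).equivMapOfInjective _ hιinj).toEquiv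
    rw [← hcA, ← hcB]
    refine small_abelian s.mc s.hne ?_
    intro a ha b hb
    apply hιinj
    rw [map_mul, map_mul]
    obtain ⟨a', ha', hae⟩ := ha
    obtain ⟨b', hb', hbe⟩ := hb
    rw [← hae, ← hbe, ← map_mul, ← map_mul]
    have := hA.is_comm.comm (⟨a', ha'⟩ : A) ⟨b', hb'⟩
    rw [show a' * b' = b' * a' from congrArg Subtype.val this]

/-- The pearls of the statement. -/
theorem isPearl_of {p : ℕ} [hp : Fact p.Prime] {F : FusionSystem S} {E : Subgroup Ω}
    (hE : (F.IsEssential p E ∧ ((Cfsg.IsElementaryAbelian p E ∧ Nat.card E = p ^ 2) ∨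
        (Cfsg.IsExtraspecial p ↥E ∧ Nat.card E = p ^ 3 ∧ ∀ x ∈ E, x ^ p = 1)))) :
    IsPearl F p E ∧ ∀ x ∈ E, x ^ p = 1 := by
  obtain ⟨hess, ⟨hea, hc⟩ | ⟨hex, hc, hexp⟩⟩ := hE
  · exact ⟨⟨hess, Or.inl hc⟩, hea.2⟩
  · refine ⟨⟨hess, Or.inr ⟨hc, fun hcomm => ?_⟩⟩, hexp⟩
    have h1 : Subgroup.center E = ⊤ := by
      rw [eq_top_iff]
      intro z _
      rw [Subgroup.mem_center_iff]
      intro g
      exact hcomm.is_comm.comm g z
    have h2 := hex.2
    rw [h1, Subgroup.card_top, hc] at h2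
    have h3 : p ^ 3 = p ^ 1 := by rw [pow_one]; exact h2
    have := Nat.pow_right_injective hp.out.two_le h3
    omega

/-- **S5183**, given the non-existence of a suitable simple group. -/
theorem rank_three_pearl (hno : NoSimple.{u}) [Finite S] (p : ℕ) [hp : Fact p.Prime] (hodd : Odd p)
    (hS : IsPGroup p S) (hsr : Cfsg.SectionalPRankLE p 3 ↥S ∧ ¬ Cfsg.SectionalPRankLE p 2 ↥S)
    (n : ℕ) (hn : 2 ≤ n) (hcard : Nat.card S = p ^ n)
    (F : Cfsg.FusionSystem S) (hF : F.IsSaturated p) (E : Subgroup Ω)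
    (hE : (F.IsEssential p E ∧ ((Cfsg.IsElementaryAbelian p E ∧ Nat.card E = p ^ 2) ∨
        (Cfsg.IsExtraspecial p ↥E ∧ Nat.card E = p ^ 3 ∧ ∀ x ∈ E, x ^ p = 1)))) :
    Group.nilpotencyClass ↥S = n - 1 ∧
      ((∃ P : Sylow p ↥(Matrix.symplecticGroup (Fin 2) (ZMod p)),
        Nonempty (↥S ≃* ↥(P : Subgroup ↥(Matrix.symplecticGroup (Fin 2) (ZMod p))))) ∨
        (p = 7 ∧ Nat.card S = 7 ^ 5 ∧ Cfsg.IsElementaryAbelian p E ∧ Nat.card E = 49 ∧
          Nonempty (↥(F.autGroup E) ≃* Matrix.SpecialLinearGroup (Fin 2) (ZMod 7)) ∧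
          F.IsSimple p ∧ F.IsExotic p)) := by
  obtain ⟨hpearl, hexp⟩ := isPearl_of hE
  have hcl := pearl_maxClass hpearl hcard
  refine ⟨hcl, ?_⟩
  have hn4 := four_le_of_rank hn hcard hcl hsr.2
  have hp2 : p ≠ 2 := by
    rintro rfl
    exact absurd hodd (by decide)
  have hp3 : 3 ≤ p := by
    have := hp.out.two_le
    omega
  -- the case `n = 4`
  have case4 : n = 4 → ∃ P : Sylow p ↥(Matrix.symplecticGroup (Fin 2) (ZMod p)),
      Nonempty (↥S ≃* ↥(P : Subgroup ↥(Matrix.symplecticGroup (Fin 2) (ZMod p)))) := by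
    rintro rfl
    have h := pearl_mc hpearl le_rfl hcard
    obtain ⟨hab, he⟩ := W1_elementary h hsr.2
    obtain ⟨x, y, e, hfr⟩ := exists_frame hS hF hpearl.ess (pearl_frattini_index hS hpearl)
    obtain ⟨m, -, -, -, -, hy1, -⟩ := pearl_position hS hpearl le_rfl hcard hfr
    refine four_equiv h hp2 hab he hy1 ?_
    rw [← map_pow, show y ^ p = 1 from Subtype.ext (hexp y y.2), map_one]
  by_cases hp5 : 5 ≤ p
  · have h6 : Nat.card S ≤ p ^ (2 * 3) := by
      have hnil : Group.IsNilpotent S := hS.isNilpotent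
      exact Cfsg.Agent.S3806.result p hS n hn hcard hcl 3 (by norm_num) hsr (by omega)
    rw [hcard] at h6
    have hn6 := (Nat.pow_le_pow_iff_right hp.out.one_lt).1 h6
    rcases pearl_rank_three hS hp5 hF hpearl hn4 hn6 hcard hsr.1 with h4 | ⟨rfl, rfl, hE2⟩
    · exact Or.inl (case4 h4)
    · right
      obtain ⟨x, y, e, hfr⟩ := exists_frame hS hF hpearl.ess (pearl_frattini_index hS hpearl)
      have s : Setup F E x y e := ⟨hS, hF, hpearl, hcard, hE2, hsr.1, hfr⟩
      refine ⟨rfl, hcard, ?_, by rw [hE2]; norm_num, s.aut_equiv, s.isSimple, s.isExotic hno⟩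
      have h1 : IsMulCommutative E := IsPGroup.isMulCommutative_of_card_eq_prime_sq hE2
      exact ⟨h1, hexp⟩
  · left
    have hp3' : p = 3 := by
      have : p = 3 ∨ p = 4 := by omega
      rcases this with h | h
      · exact h
      · exfalso
        rw [h] at hodd
        exact absurd hodd (by decide)
    subst hp3'
    apply case4
    have h9 := Cfsg.Agent.S5239.result hS F hF E hpearl.ess (by
      rcases hpearl.shape with h | h
      · left
        refine ⟨by rw [h]; norm_num, fun x hx => ⟨hexp x hx, ?_⟩⟩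
        exact IsPGroup.isMulCommutative_of_card_eq_prime_sq h
      · right
        exact ⟨by rw [h.1]; norm_num, h.2⟩)
    rcases h9 with ⟨-, h27, -⟩ | ⟨-, hgen⟩ | ⟨W, ⟨f⟩⟩
    · exfalso
      rw [hcard] at h27
      have h3 : 3 ^ n = 3 ^ 3 := by rw [h27]; norm_num
      have := Nat.pow_right_injective (le_refl 2 |>.trans (by norm_num)) h3
      omega
    · exfalso
      apply hsr.2
      apply sectionalPRankLE_of_generated (by norm_num)
      classical
      intro H
      obtain ⟨T, hT, hTH⟩ := hgen (H.map S.subtype) (by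
        rintro _ ⟨a, -, rfl⟩
        exact a.2)
      have hTS : ∀ t ∈ T, t ∈ S := by
        intro t ht
        have h1 : t ∈ H.map S.subtype := by
          rw [← hTH]
          exact Subgroup.subset_closure ht
        obtain ⟨a, -, rfl⟩ := h1
        exact a.2
      refine ⟨T.attach.image fun t => (⟨t.1, hTS t.1 t.2⟩ : S),
        Finset.card_image_le.trans (by rw [Finset.card_attach]; exact hT), ?_⟩
      apply Subgroup.map_injective S.subtype_injective
      rw [MonoidHom.map_closure, ← hTH]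
      congr 1
      ext z
      constructor
      · rintro ⟨a, ha, rfl⟩
        rw [Finset.mem_coe, Finset.mem_image] at ha
        obtain ⟨t, -, rfl⟩ := ha
        exact t.2
      · intro hz
        refine ⟨⟨z, hTS z hz⟩, ?_, rfl⟩
        rw [Finset.mem_coe, Finset.mem_image]
        exact ⟨⟨z, hz⟩, Finset.mem_attach _ _, rfl⟩
    · have h1 : Nat.card W = 3 ^ 4 := by
        rw [Sylow.card_eq_multiplicity, Nat.card_perm, Nat.card_eq_fintype_card, Fintype.card_fin]
        congr 1
        have h2 : Nat.factorial 9 = 3 ^ 4 * 4480 := by decide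
        rw [h2, Nat.factorization_mul (by norm_num) (by norm_num), Finsupp.add_apply,
          Nat.factorization_eq_zero_of_not_dvd (by norm_num : ¬ 3 ∣ 4480),
          Nat.prime_three.factorization_pow]
        simp
      have h2 := Nat.card_congr f.toEquiv
      rw [hcard, h1] at h2
      exact Nat.pow_right_injective (le_refl 2 |>.trans (by norm_num)) h2

end Cfsg.Agent.H766
end
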